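import Cfsg.Agent.Lib.Lev.IrredAux
import Mathlib.LinearAlgebra.Matrix.Transvection

/-!
Covering number of `PSL n q` (Lev): a nonscalar factor of given determinant avoiding two traces for
itself and for the complementary factor.
-/

set_option autoImplicit false
set_option linter.unusedSectionVars false
set_option linter.unusedSimpArgs false

namespace CfsgLib.Lev

open Matrix Polynomial

namespace Choice

variable {F : Type*} [Field F]

theorem isScalarMat_inv {ι : Type*} [Fintype ι] [DecidableEq ι] {G : Matrix ι ι F} (hG : G.det ≠ 0)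
    (h : IsScalarMat G⁻¹) : IsScalarMat G := by
  obtain ⟨c, hc⟩ := h
  have hu := isUnit_iff_ne_zero.2 hG
  have e : G * G⁻¹ = 1 := mul_nonsing_inv _ hu
  rw [hc, Matrix.mul_smul, mul_one] at e
  rcases eq_or_ne c 0 with rfl | hc0
  · rw [zero_smul] at e
    exact ⟨1, Matrix.ext fun i j => absurd (congrFun (congrFun e i) i) (by simp)⟩
  · exact ⟨c⁻¹, by rw [← e, smul_smul, inv_mul_cancel₀ hc0, one_smul]⟩

theorem trace_inv_two {G : Matrix (Fin 2) (Fin 2) F} : (G⁻¹).trace = G.trace / G.det := by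
  rw [Matrix.inv_def, Matrix.trace_smul, Matrix.adjugate_fin_two, Ring.inverse_eq_inv', smul_eq_mul,
    Matrix.trace_fin_two, Matrix.trace_fin_two]
  simp only [Matrix.of_apply, Matrix.cons_val', Matrix.cons_val_zero, Matrix.cons_val_one,
    Matrix.empty_val', Matrix.cons_val_fin_one]
  ring

variable [Fintype F]

/-- The parameters in the odd case. -/
theorem exists_param [DecidableEq F] (h5 : 5 ≤ Fintype.card F) (h2 : (2 : F) ≠ 0) (τ δ d : F)
    (S₁ S₂ : Finset F) (h1c : S₁.card ≤ 3) (h2c : S₂.card ≤ 3) :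
    ∃ t c e : F, t ∉ S₁ ∧ c ≠ 0 ∧ e ≠ 0 ∧ ((t - e) * e - d) / c - δ * c + τ * e ∉ S₂ := by
  obtain ⟨t, ht⟩ := exists_avoid (insert 0 S₁)
    (lt_of_le_of_lt (Finset.card_insert_le _ _) (by omega))
  simp only [Finset.mem_insert, not_or] at ht
  by_contra H
  push Not at H
  -- for a good `c` every element is covered
  have cover : ∀ c : F, c ≠ 0 → t + c * τ ≠ 0 → ∀ e : F,
      ((t - e) * e - d) / c - δ * c + τ * e ∈ S₂ := by
    intro c hc hs e
    rcases eq_or_ne e 0 with rfl | he
    · have h := H t c (t + c * τ) ht.2 hc hs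
      convert h using 1
      field_simp
      ring
    · exact H t c e ht.2 hc he
  rcases eq_or_lt_of_le h5 with h5' | h7
  · -- five elements: the images for two values of `c` differ
    have h5z : (5 : F) = 0 := by
      have := Nat.cast_card_eq_zero F
      rw [← h5'] at this
      exact_mod_cast this
    have h1ne : (1 : F) ≠ 0 := one_ne_zero
    have h3 : (3 : F) ≠ 0 := fun h => h1ne (by linear_combination 2 * h - h5z)
    have h4 : (4 : F) ≠ 0 := fun h => h1ne (by linear_combination h5z - h)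
    have key : ∀ c : F, c ≠ 0 → t + c * τ ≠ 0 →
        ∑ x ∈ S₂, x = 3 * (((t + c * τ) ^ 2 / 4 - d) / c - δ * c) ∧
          ∑ x ∈ S₂, x ^ 2 = 3 * (((t + c * τ) ^ 2 / 4 - d) / c - δ * c) ^ 2 + 2 * (1 / c) ^ 2 := by
      intro c hc hs
      set k := ((t + c * τ) ^ 2 / 4 - d) / c - δ * c with hk
      have hval : ∀ u : F, k - u ^ 2 / c ∈ S₂ := by
        intro u
        have := cover c hc hs ((t + c * τ) / 2 + u)
        convert this using 1
        rw [hk]
        field_simp
        ring
      have hw : (1 : F) / c ≠ 0 := one_div_ne_zero hc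
      have e0 : k ∈ S₂ := by simpa using hval 0
      have e1 : k - 1 / c ∈ S₂ := by simpa using hval 1
      have e2 : k + 1 / c ∈ S₂ := by
        have h := hval 2
        rwa [show k - 2 ^ 2 / c = k + 1 / c by field_simp; linear_combination (-1 : F) * h5z] at h
      have n1 : k ∉ ({k - 1 / c, k + 1 / c} : Finset F) := by
        simp only [Finset.mem_insert, Finset.mem_singleton, not_or]
        exact ⟨fun h => hw (by linear_combination h), fun h => hw (by linear_combination -h)⟩
      have n2 : k - 1 / c ∉ ({k + 1 / c} : Finset F) := by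
        rw [Finset.mem_singleton]
        intro h
        exact hw ((mul_eq_zero.1 (by linear_combination -h : (2 : F) * (1 / c) = 0)).resolve_left h2)
      have hS : S₂ = {k, k - 1 / c, k + 1 / c} := by
        refine (Finset.eq_of_subset_of_card_le ?_ ?_).symm
        · simp [Finset.insert_subset_iff, e0]
          exact ⟨by simpa using e1, by simpa using e2⟩
        · rw [Finset.card_insert_of_notMem n1, Finset.card_insert_of_notMem n2, Finset.card_singleton]
          exact h2c
      rw [hS, Finset.sum_insert n1, Finset.sum_insert n2, Finset.sum_singleton,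
        Finset.sum_insert n1, Finset.sum_insert n2, Finset.sum_singleton]
      constructor <;> ring
    obtain ⟨c, hc, hg1, hg2⟩ : ∃ c : F, c ≠ 0 ∧ t + c * τ ≠ 0 ∧ t + 2 * c * τ ≠ 0 := by
      by_contra hcon
      push Not at hcon
      have a1 := hcon 1 one_ne_zero
      have a2 := hcon (-1) (neg_ne_zero.2 one_ne_zero)
      rcases eq_or_ne (t + 1 * τ) 0 with x | x <;> rcases eq_or_ne (t + -1 * τ) 0 with y | y
      · exact ht.1 ((mul_eq_zero.1 (by linear_combination x + y : (2 : F) * t = 0)).resolve_left h2)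
      · have z := a2 y
        exact ht.1 ((mul_eq_zero.1 (by linear_combination 2 * x + z : (3 : F) * t = 0)).resolve_left h3)
      · have z := a1 x
        exact ht.1 ((mul_eq_zero.1 (by linear_combination 2 * y + z : (3 : F) * t = 0)).resolve_left h3)
      · have z := a1 x
        have z' := a2 y
        exact ht.1 ((mul_eq_zero.1 (by linear_combination z + z' : (2 : F) * t = 0)).resolve_left h2)
    obtain ⟨s1, q1⟩ := key c hc hg1
    obtain ⟨s2, q2⟩ := key (2 * c) (mul_ne_zero h2 hc) hg2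
    have hk := mul_left_cancel₀ h3 (s1.symm.trans s2)
    rw [hk] at q1
    have := q1.symm.trans q2
    have hcc : (1 / c) ^ 2 * (2 * 3) = 0 := by
      have e : (1 / (2 * c)) ^ 2 * 4 = (1 / c) ^ 2 := by
        rw [one_div_pow, one_div_pow, mul_pow]; field_simp; ring
      linear_combination 4 * this + 2 * e
    exact mul_ne_zero (pow_ne_zero _ (one_div_ne_zero hc)) (mul_ne_zero h2 h3) hcc
  · -- at least seven elements
    have h7' : 7 ≤ Fintype.card F := by
      rcases (show Fintype.card F = 6 ∨ 7 ≤ Fintype.card F by omega) with h | h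
      · exfalso
        obtain ⟨n, hpr, hn⟩ := FiniteField.card F (ringChar F)
        rw [h] at hn
        have d2 : 2 ∣ ringChar F ^ (n : ℕ) := hn ▸ by norm_num
        have d3 : 3 ∣ ringChar F ^ (n : ℕ) := hn ▸ by norm_num
        have := (Nat.prime_dvd_prime_iff_eq Nat.prime_two hpr).1 (Nat.prime_two.dvd_of_dvd_pow d2)
        have := (Nat.prime_dvd_prime_iff_eq Nat.prime_three hpr).1 (Nat.prime_three.dvd_of_dvd_pow d3)
        omega
      · exact h
    obtain ⟨c, hc, hs⟩ : ∃ c : F, c ≠ 0 ∧ t + c * τ ≠ 0 := by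
      by_contra hcon
      push Not at hcon
      have a1 := hcon 1 one_ne_zero
      have a2 := hcon (-1) (neg_ne_zero.2 one_ne_zero)
      exact ht.1 ((mul_eq_zero.1 (by linear_combination a1 + a2 : (2 : F) * t = 0)).resolve_left h2)
    have hfib : ∀ v : F, (Finset.univ.filter fun e =>
        ((t - e) * e - d) / c - δ * c + τ * e = v).card ≤ 2 := by
      intro v
      by_contra hlt
      obtain ⟨x, hx, y, hy, z, hz, hxy, hxz, hyz⟩ := Finset.two_lt_card.1 (not_le.1 hlt)
      simp only [Finset.mem_filter, Finset.mem_univ, true_and] at hx hy hz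
      have hxy' := hx.trans hy.symm
      have hxz' := hx.trans hz.symm
      field_simp at hxy' hxz'
      have a : (x - y) * (t + c * τ - x - y) = 0 := by linear_combination hxy'
      have b : (x - z) * (t + c * τ - x - z) = 0 := by linear_combination hxz'
      have a' := (mul_eq_zero.1 a).resolve_left (sub_ne_zero.2 hxy)
      have b' := (mul_eq_zero.1 b).resolve_left (sub_ne_zero.2 hxz)
      exact hyz (by linear_combination b' - a')
    have := Finset.card_le_mul_card_image_of_maps_to (s := (Finset.univ : Finset F)) (t := S₂)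
      (f := fun e => ((t - e) * e - d) / c - δ * c + τ * e) (fun e _ => cover c hc hs e) 2
      (fun v _ => hfib v)
    rw [Finset.card_univ] at this
    omega

/-- Two by two: the extra condition against a double eigenvalue. -/
theorem exists_two (hq : 4 ≤ Fintype.card F) {A : Matrix (Fin 2) (Fin 2) F} (hA : ¬ IsScalarMat A)
    (hAd : A.det ≠ 0) {d : F} (hd : d ≠ 0) (f f' g g' : F) :
    ∃ H : Matrix (Fin 2) (Fin 2) F, ¬ IsScalarMat H ∧ H.det = d ∧ H.trace ≠ f ∧ H.trace ≠ f' ∧
      ¬ IsScalarMat (H⁻¹ * A) ∧ (H⁻¹ * A).trace ≠ g ∧ (H⁻¹ * A).trace ≠ g' ∧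
      (f = f' → H.trace ^ 2 ≠ 4 * H.det) ∧
      (g = g' → (H⁻¹ * A).trace ^ 2 ≠ 4 * (H⁻¹ * A).det) := by
  classical
  have hdi : d⁻¹ ≠ 0 := inv_ne_zero hd
  -- it is enough to find the inverse factor
  suffices h : ∃ G : Matrix (Fin 2) (Fin 2) F, ¬ IsScalarMat G ∧ G.det = d⁻¹ ∧ G.trace ≠ f / d ∧
      G.trace ≠ f' / d ∧ ¬ IsScalarMat (G * A) ∧ (G * A).trace ≠ g ∧ (G * A).trace ≠ g' ∧
      (f = f' → G.trace ^ 2 ≠ 4 * G.det) ∧ (g = g' → (G * A).trace ^ 2 ≠ 4 * (G * A).det) by
    obtain ⟨G, h1, h2, h3, h4, h5, h6, h7, h8, h9⟩ := h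
    have hG0 : G.det ≠ 0 := h2 ▸ hdi
    have htr : (G⁻¹).trace = G.trace * d := by rw [trace_inv_two, h2, div_inv_eq_mul]
    have hdet : (G⁻¹).det = d := by rw [det_nonsing_inv, h2, Ring.inverse_eq_inv', inv_inv]
    have hinv : (G⁻¹)⁻¹ = G := nonsing_inv_nonsing_inv _ (isUnit_iff_ne_zero.2 hG0)
    refine ⟨G⁻¹, fun h => h1 (isScalarMat_inv hG0 h), hdet, ?_, ?_, ?_⟩
    · rw [htr]; exact fun e => h3 (by rw [← e, mul_div_cancel_right₀ _ hd])
    · rw [htr]; exact fun e => h4 (by rw [← e, mul_div_cancel_right₀ _ hd])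
    · rw [hinv]
      refine ⟨h5, h6, h7, fun e e' => h8 e ?_, h9⟩
      rw [htr, hdet] at e'
      rw [h2]
      have h' : G.trace ^ 2 * d = 4 := mul_right_cancel₀ hd (by linear_combination e')
      field_simp
      linear_combination h'
  by_cases h2 : (2 : F) = 0
  · have h4 : (4 : F) = 0 := by linear_combination 2 * h2
    obtain ⟨G, h1, h2', h3, h3', h5, h6, h7⟩ := exists_trace_avoid hq hA hAd hdi (f / d)
      (if f = f' then 0 else f' / d) g (if g = g' then 0 else g')
    refine ⟨G, h1, h2', h3, ?_, h7, h5, ?_, fun e => ?_, fun e => ?_⟩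
    · split_ifs at h3' with e
      · rwa [← e]
      · exact h3'
    · split_ifs at h6 with e
      · rwa [← e]
      · exact h6
    · rw [if_pos e] at h3'
      rw [h4, zero_mul]
      exact pow_ne_zero _ h3'
    · rw [if_pos e] at h6
      rw [h4, zero_mul]
      exact pow_ne_zero _ h6
  · have h5 : 5 ≤ Fintype.card F := by
      rcases eq_or_lt_of_le hq with h | h
      · exact absurd (four_facts h.symm).1 h2
      · exact h
    set τ := A.trace with hτ
    set δ := A.det with hδ
    have sq : ∀ z : F, ∃ r : F, ∀ x : F, x ^ 2 = z → x = r ∨ x = -r := by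
      intro z
      by_cases h : ∃ r, r ^ 2 = z
      · obtain ⟨r, hr⟩ := h
        exact ⟨r, fun x hx => sq_eq_sq_iff_eq_or_eq_neg.1 (hx.trans hr.symm)⟩
      · exact ⟨0, fun x hx => absurd ⟨x, hx⟩ h⟩
    obtain ⟨r, hr⟩ := sq (4 * d⁻¹)
    obtain ⟨s, hs⟩ := sq (4 * (d⁻¹ * δ))
    obtain ⟨S₁, hS₁, hS₁c⟩ : ∃ S : Finset F, (f / d ∈ S ∧ f' / d ∈ S ∧
        (f = f' → r ∈ S ∧ -r ∈ S)) ∧ S.card ≤ 3 := by
      by_cases e : f = f'
      · exact ⟨{f / d, r, -r}, by simp [e], Finset.card_le_three⟩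
      · exact ⟨{f / d, f' / d}, by simp [e], Finset.card_le_two.trans (by norm_num)⟩
    obtain ⟨S₂, hS₂, hS₂c⟩ : ∃ S : Finset F, (g ∈ S ∧ g' ∈ S ∧
        (g = g' → s ∈ S ∧ -s ∈ S)) ∧ S.card ≤ 3 := by
      by_cases e : g = g'
      · exact ⟨{g, s, -s}, by simp [e], Finset.card_le_three⟩
      · exact ⟨{g, g'}, by simp [e], Finset.card_le_two.trans (by norm_num)⟩
    obtain ⟨t, c, e, ht, hc, he, hv⟩ := exists_param h5 h2 τ δ d⁻¹ S₁ S₂ hS₁c hS₂c
    set b := ((t - e) * e - d⁻¹) / c with hb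
    obtain ⟨P, hP, hPA⟩ := glConj_comp2 hA
    set G0 : Matrix (Fin 2) (Fin 2) F := !![t - e, b; c, e] with hG0
    have hu : IsUnit P.det := isUnit_iff_ne_zero.2 hP
    have hconj : GLConj G0 (P * G0 * P⁻¹) :=
      ⟨P, hP, by rw [mul_assoc, nonsing_inv_mul _ hu, mul_one]⟩
    have hconjA : GLConj (G0 * comp2 τ δ) (P * G0 * P⁻¹ * A) := by
      refine ⟨P, hP, ?_⟩
      rw [mul_assoc (P * G0 * P⁻¹), ← hPA, ← mul_assoc (P * G0 * P⁻¹), mul_assoc (P * G0) P⁻¹,
        nonsing_inv_mul _ hu, mul_one, mul_assoc]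
    have hbc : b * c = (t - e) * e - d⁻¹ := by rw [hb, div_mul_cancel₀ _ hc]
    have hGd : (P * G0 * P⁻¹).det = d⁻¹ := by
      rw [hconj.det_eq, hG0, Matrix.det_fin_two_of]; linear_combination -hbc
    have hGt : (P * G0 * P⁻¹).trace = t := by
      rw [hconj.trace_eq, hG0, Matrix.trace_fin_two]; simp
    have htr : (P * G0 * P⁻¹ * A).trace = b - δ * c + τ * e := by
      rw [hconjA.trace_eq]
      simp [hG0, comp2, Matrix.trace_fin_two, Matrix.mul_apply, Fin.sum_univ_two]; ring
    refine ⟨P * G0 * P⁻¹, fun hs => ?_, hGd, ?_, ?_, fun hs => ?_, ?_, ?_, fun hf h => ?_, fun hg h => ?_⟩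
    · obtain ⟨l, hl⟩ := hconj.isScalarMat hs
      have := congrFun (congrFun hl 1) 0
      simp [hG0] at this
      exact hc this
    · rw [hGt]; exact fun h => ht (h ▸ hS₁.1)
    · rw [hGt]; exact fun h => ht (h ▸ hS₁.2.1)
    · obtain ⟨l, hl⟩ := hconjA.isScalarMat hs
      have := congrFun (congrFun hl 1) 0
      simp [hG0, comp2, Matrix.mul_apply, Fin.sum_univ_two] at this
      exact he this
    · rw [htr]; exact fun h => hv (h ▸ hS₂.1)
    · rw [htr]; exact fun h => hv (h ▸ hS₂.2.1)
    · rw [hGd, hGt] at h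
      rcases hr t h with rfl | rfl
      · exact ht (hS₁.2.2 hf).1
      · exact ht (hS₁.2.2 hf).2
    · rw [det_mul, hGd, htr, ← hδ] at h
      rcases hs _ h with h' | h'
      · exact hv (h' ▸ (hS₂.2.2 hg).1)
      · exact hv (h' ▸ (hS₂.2.2 hg).2)

omit [Fintype F] in
/-- A nonscalar matrix has a conjugate with a nonzero entry off the diagonal. -/
theorem exists_offdiag {ι : Type*} [Fintype ι] [DecidableEq ι] {A : Matrix ι ι F} (hA : ¬ IsScalarMat A) :
    ∃ A' : Matrix ι ι F, GLConj A A' ∧ ∃ i j, i ≠ j ∧ A' i j ≠ 0 := by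
  by_cases h : ∃ i j, i ≠ j ∧ A i j ≠ 0
  · exact ⟨A, ⟨1, by simp, by simp⟩, h⟩
  · push Not at h
    obtain ⟨i, j, hij⟩ : ∃ i j, A i i ≠ A j j := by
      by_contra hd
      push Not at hd
      rcases isEmpty_or_nonempty ι with hι | ⟨⟨i₀⟩⟩
      · exact hA ⟨1, Subsingleton.elim _ _⟩
      · refine hA ⟨A i₀ i₀, Matrix.ext fun a b => ?_⟩
        rcases eq_or_ne a b with rfl | hab
        · simp [hd a i₀]
        · simp [h a b hab, hab]
    have hne : i ≠ j := fun e => hij (by rw [e])
    refine ⟨transvection i j 1 * A * transvection i j (-1), ⟨transvection i j 1,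
      by rw [det_transvection_of_ne _ _ hne]; exact one_ne_zero, ?_⟩, i, j, hne, ?_⟩
    · rw [mul_assoc _ (transvection i j (-1 : F)), transvection_mul_transvection_same _ _ hne,
        neg_add_cancel, transvection_zero, mul_one]
    · rw [mul_transvection_apply_same, transvection_mul_apply_same, transvection_mul_apply_same,
        h i j hne, h j i hne.symm]
      intro e
      exact hij (by linear_combination -e)

/-- At least three: explicit factor. -/
theorem exists_large (hq : 4 ≤ Fintype.card F) {k : ℕ} (hk : 3 ≤ k) {A : Matrix (Fin k) (Fin k) F}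
    (hA : ¬ IsScalarMat A) {d : F} (hd : d ≠ 0) (f f' g g' : F) :
    ∃ H : Matrix (Fin k) (Fin k) F, ¬ IsScalarMat H ∧ H.det = d ∧ H.trace ≠ f ∧ H.trace ≠ f' ∧
      ¬ IsScalarMat (H⁻¹ * A) ∧ (H⁻¹ * A).trace ≠ g ∧ (H⁻¹ * A).trace ≠ g' := by
  classical
  obtain ⟨A', hAA', i, j, hij, hne⟩ := exists_offdiag hA
  obtain ⟨l, hl⟩ : ∃ l : Fin k, l ∉ ({i, j} : Finset (Fin k)) := by
    by_contra h
    push Not at h
    have := (Finset.card_le_card (fun x _ => h x : (Finset.univ : Finset (Fin k)) ⊆ _)).trans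
      Finset.card_le_two
    rw [Finset.card_univ, Fintype.card_fin] at this
    omega
  simp only [Finset.mem_insert, Finset.mem_singleton, not_or] at hl
  obtain ⟨hli, hlj⟩ : l ≠ i ∧ l ≠ j := hl
  -- the trace of the factor and the coefficient of the parameter
  obtain ⟨a, ha⟩ := exists_avoid ({(f - (k - 1 : ℕ) - d) / d, (f' - (k - 1 : ℕ) - d) / d,
      if A' l j = 0 then (f - (k - 1 : ℕ) - d) / d else d⁻¹ * A' i j / A' l j} : Finset F)
    (lt_of_le_of_lt Finset.card_le_three (by omega))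
  simp only [Finset.mem_insert, Finset.mem_singleton, not_or] at ha
  set D : Matrix (Fin k) (Fin k) F := diagonal (Function.update 1 i d) with hD
  set D' : Matrix (Fin k) (Fin k) F := diagonal (Function.update 1 i d⁻¹) with hD'
  set B := D * transvection i l a * transvection l i 1 with hB
  set B' := transvection l i (-1) * transvection i l (-a) * D' with hB'
  have hBB : B * B' = 1 := by
    rw [hB, hB', mul_assoc D, mul_assoc D, ← mul_assoc (transvection i l a * transvection l i 1),
      mul_assoc (transvection i l a), ← mul_assoc (transvection l i 1),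
      transvection_mul_transvection_same _ _ hli, add_neg_cancel, transvection_zero, one_mul,
      transvection_mul_transvection_same _ _ hli.symm, add_neg_cancel, transvection_zero, one_mul,
      hD, hD', diagonal_mul_diagonal, ← diagonal_one]
    congr 1
    funext x
    rcases eq_or_ne x i with rfl | hx
    · simp [mul_inv_cancel₀ hd]
    · simp [hx]
  have hBd : B.det = d := by
    rw [hB, det_mul, det_mul, det_transvection_of_ne _ _ hli.symm, det_transvection_of_ne _ _ hli,
      hD, det_diagonal, Finset.prod_update_of_mem (Finset.mem_univ i)]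
    simp
  have hBe : ∀ x y, B x y = (Function.update (1 : Fin k → F) i d x) *
      (transvection i l a * transvection l i (1 : F)) x y := fun x y => by
    rw [hB, mul_assoc, hD, diagonal_mul]
  have hTT : ∀ x y, (transvection i l a * transvection l i (1 : F)) x y =
      (1 : Matrix (Fin k) (Fin k) F) x y + (if x = l ∧ y = i then 1 else 0) +
        (if x = i ∧ y = l then a else 0) + if x = i ∧ y = i then a else 0 := by
    intro x y
    rw [transvection, transvection, add_mul, one_mul, mul_add, mul_one, single_mul_single_same,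
      mul_one, Matrix.add_apply, Matrix.add_apply, Matrix.add_apply, Matrix.single_apply,
      Matrix.single_apply, Matrix.single_apply]
    simp only [eq_comm (a := i), eq_comm (a := l)]
    ring
  have hBt : B.trace = (k - 1 : ℕ) + d + d * a := by
    have hdiag : ∀ x, B x x = if x = i then d * (1 + a) else 1 := by
      intro x
      rw [hBe, hTT]
      rcases eq_or_ne x i with rfl | hx
      · simp [hli.symm]
      · simp [hx]
    rw [Matrix.trace]
    simp only [Matrix.diag, hdiag]
    rw [Finset.sum_ite, Finset.sum_const, Finset.sum_const, Finset.filter_eq', if_pos (Finset.mem_univ i),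
      Finset.card_singleton, one_smul, Finset.filter_ne', Finset.card_erase_of_mem (Finset.mem_univ i),
      Finset.card_univ, Fintype.card_fin, nsmul_eq_mul, mul_one]
    ring
  have hBj : ∀ x, B x j = if x = j then 1 else 0 := by
    intro x
    rw [hBe, hTT]
    rcases eq_or_ne x j with rfl | hx
    · simp [hij.symm, hlj.symm]
    · simp [hx, hij.symm, hlj.symm]
  have hB'i : ∀ x, B' i x = if x = i then d⁻¹ else if x = l then -a else 0 := by
    intro x
    rw [hB', mul_assoc, transvection_mul_apply_of_ne _ _ _ _ hli.symm, hD', mul_diagonal]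
    rcases eq_or_ne x i with rfl | hxi
    · simp [transvection, hli]
    · rcases eq_or_ne x l with rfl | hxl
      · simp [transvection, hxi, hxi.symm]
      · simp [transvection, hxi, hxi.symm, hxl, hxl.symm]
  have hcoef : (B' * A') i j ≠ 0 := by
    rw [mul_apply, Finset.sum_eq_add i l hli.symm (fun x _ hx => by
      rw [hB'i, if_neg hx.1, if_neg hx.2, zero_mul]) (by simp) (by simp), hB'i, hB'i, if_pos rfl,
      if_neg hli, if_pos rfl]
    intro e
    rcases eq_or_ne (A' l j) 0 with h0 | h0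
    · rw [h0, mul_zero, add_zero] at e
      exact mul_ne_zero (inv_ne_zero hd) hne e
    · have h3 := ha.2.2
      rw [if_neg h0] at h3
      apply h3
      rw [eq_div_iff h0]
      linear_combination -e
  obtain ⟨z, hz⟩ := exists_avoid ({(g - (B' * A').trace) / (B' * A') i j,
      (g' - (B' * A').trace) / (B' * A') i j} : Finset F)
    (lt_of_le_of_lt Finset.card_le_two (by omega))
  simp only [Finset.mem_insert, Finset.mem_singleton, not_or] at hz
  set H := B * transvection j i (-z) with hH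
  have hHinv : H⁻¹ = transvection j i z * B' := by
    refine inv_eq_right_inv ?_
    rw [hH, mul_assoc, ← mul_assoc (transvection j i (-z)), transvection_mul_transvection_same _ _ hij.symm,
      neg_add_cancel, transvection_zero, one_mul, hBB]
  have hHtr : H.trace = B.trace := by
    rw [hH, transvection, mul_add, mul_one, trace_add, Matrix.trace_mul_single, hBj i, if_neg hij]
    simp
  have hGtr : (H⁻¹ * A').trace = (B' * A').trace + z * (B' * A') i j := by
    rw [hHinv, mul_assoc, transvection, add_mul, one_mul, trace_add, Matrix.trace_single_mul]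
    simp [mul_comm]
  have hHj : ∀ x, H x j = if x = j then 1 else 0 := fun x => by
    rw [hH, mul_transvection_apply_of_ne _ _ _ _ hij.symm, hBj]
  have hHd : H.det = d := by rw [hH, det_mul, det_transvection_of_ne _ _ hij.symm, hBd, mul_one]
  -- transport back
  obtain ⟨P, hP, hPA⟩ := hAA'
  have hu : IsUnit P.det := isUnit_iff_ne_zero.2 hP
  have hPu' : IsUnit (P⁻¹).det := Matrix.isUnit_nonsing_inv_det _ hu
  have hc1 : GLConj H (P⁻¹ * H * P) :=
    ⟨P⁻¹, hPu'.ne_zero, by rw [mul_assoc (P⁻¹ * H), mul_nonsing_inv _ hu, mul_one]⟩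
  have hc2 : GLConj (H⁻¹ * A') ((P⁻¹ * H * P)⁻¹ * A) := by
    refine ⟨P⁻¹, hPu'.ne_zero, ?_⟩
    have hA' : P⁻¹ * A' = A * P⁻¹ := by
      calc P⁻¹ * A' = P⁻¹ * (A' * P) * P⁻¹ := by
            rw [mul_assoc P⁻¹ (A' * P), mul_assoc A', mul_nonsing_inv _ hu, mul_one]
        _ = A * P⁻¹ := by rw [← hPA, ← mul_assoc, nonsing_inv_mul _ hu, one_mul]
    have hHu : IsUnit H.det := isUnit_iff_ne_zero.2 (hHd ▸ hd)
    have hinvc : (P⁻¹ * H * P)⁻¹ = P⁻¹ * (H⁻¹ * P) := inv_eq_right_inv (by
      calc P⁻¹ * H * P * (P⁻¹ * (H⁻¹ * P)) = P⁻¹ * H * (P * P⁻¹) * H⁻¹ * P := by simp only [mul_assoc]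
        _ = 1 := by rw [mul_nonsing_inv _ hu, mul_one, mul_assoc P⁻¹, mul_nonsing_inv _ hHu, mul_one,
            nonsing_inv_mul _ hu])
    rw [hinvc, mul_assoc (P⁻¹ * (H⁻¹ * P)) A,
      ← hA', mul_assoc P⁻¹, mul_assoc H⁻¹, ← mul_assoc P P⁻¹, mul_nonsing_inv _ hu, one_mul]
  refine ⟨P⁻¹ * H * P, fun hs => ?_, by rw [hc1.det_eq, hHd], ?_, ?_, fun hs => ?_, ?_, ?_⟩
  · obtain ⟨c, hc⟩ := hc1.isScalarMat hs
    have e1 := congrFun (congrFun hc l) i
    rw [hH, mul_transvection_apply_same, hBe, hTT, hBj, if_neg hlj] at e1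
    simp [hli] at e1
  · rw [hc1.trace_eq, hHtr, hBt]
    intro e
    exact ha.1 (by rw [eq_div_iff hd]; linear_combination e)
  · rw [hc1.trace_eq, hHtr, hBt]
    intro e
    exact ha.2.1 (by rw [eq_div_iff hd]; linear_combination e)
  · obtain ⟨c, hc⟩ := hc2.isScalarMat hs
    have hHu : IsUnit H.det := isUnit_iff_ne_zero.2 (hHd ▸ hd)
    have e : A' = c • H := by
      have := congrArg (H * ·) hc
      simp only [← mul_assoc, mul_nonsing_inv _ hHu, one_mul, Matrix.mul_smul, mul_one] at this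
      exact this
    exact hne (by rw [e, Matrix.smul_apply, hHj, if_neg hij, smul_zero])
  · rw [hc2.trace_eq, hGtr]
    intro e
    exact hz.1 (by rw [eq_div_iff hcoef]; linear_combination e)
  · rw [hc2.trace_eq, hGtr]
    intro e
    exact hz.2 (by rw [eq_div_iff hcoef]; linear_combination e)

end Choice

variable {F : Type*} [Field F] [Fintype F]

/-- Trace choice for a nonscalar target. -/
theorem exists_choice (hq : 4 ≤ Fintype.card F) {k : ℕ} (hk : 2 ≤ k) {A : Matrix (Fin k) (Fin k) F}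
    (hA : ¬ IsScalarMat A) (hAd : A.det ≠ 0) {d : F} (hd : d ≠ 0) (f f' g g' : F) :
    ∃ H : Matrix (Fin k) (Fin k) F, ¬ IsScalarMat H ∧ H.det = d ∧ H.trace ≠ f ∧ H.trace ≠ f' ∧
      ¬ IsScalarMat (H⁻¹ * A) ∧ (H⁻¹ * A).trace ≠ g ∧ (H⁻¹ * A).trace ≠ g' ∧
      (k = 2 → f = f' → H.trace ^ 2 ≠ 4 * H.det) ∧
      (k = 2 → g = g' → (H⁻¹ * A).trace ^ 2 ≠ 4 * (H⁻¹ * A).det) := by
  rcases eq_or_lt_of_le hk with rfl | hk3
  · obtain ⟨H, h1, h2, h3, h4, h5, h6, h7, h8, h9⟩ := Choice.exists_two hq hA hAd hd f f' g g'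
    exact ⟨H, h1, h2, h3, h4, h5, h6, h7, fun _ => h8, fun _ => h9⟩
  · obtain ⟨H, h1, h2, h3, h4, h5, h6, h7⟩ := Choice.exists_large hq hk3 hA hd f f' g g'
    exact ⟨H, h1, h2, h3, h4, h5, h6, h7, fun e => absurd e (by omega), fun e => absurd e (by omega)⟩

/-- Trace choice for a scalar target. -/
theorem exists_choice_scalar (hq : 4 ≤ Fintype.card F) {k : ℕ} (hk : 2 ≤ k) {s : F} (hs : s ≠ 0)
    {d : F} (hd : d ≠ 0) (g g' : F) :
    ∃ H : Matrix (Fin k) (Fin k) F, ¬ IsScalarMat H ∧ H.det = d ∧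
      ¬ IsScalarMat (H⁻¹ * (s • (1 : Matrix (Fin k) (Fin k) F))) ∧
      (H⁻¹ * (s • (1 : Matrix (Fin k) (Fin k) F))).trace ≠ g ∧
      (H⁻¹ * (s • (1 : Matrix (Fin k) (Fin k) F))).trace ≠ g' ∧
      (k = 2 → g = g' → H.trace ^ 2 ≠ 4 * H.det ∧
        (H⁻¹ * (s • (1 : Matrix (Fin k) (Fin k) F))).trace ^ 2 ≠
          4 * (H⁻¹ * (s • (1 : Matrix (Fin k) (Fin k) F))).det) := by
  classical
  rcases eq_or_lt_of_le hk with rfl | hk3
  · obtain ⟨A, hA, hAd⟩ : ∃ A : Matrix (Fin 2) (Fin 2) F, ¬ IsScalarMat A ∧ A.det ≠ 0 := by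
      refine ⟨comp2 0 1, fun ⟨c, hc⟩ => ?_, by rw [det_comp2]; exact one_ne_zero⟩
      have := congrFun (congrFun hc 1) 0
      simp [comp2] at this
    -- only the first factor matters: `g` transported by `s`
    obtain ⟨H, h1, h2, h3, h4, -, -, -, h8, -⟩ :=
      Choice.exists_two hq hA hAd hd (g * d / s) (g' * d / s) 0 0
    have hH0 : H.det ≠ 0 := h2 ▸ hd
    have hmul : H⁻¹ * (s • (1 : Matrix (Fin 2) (Fin 2) F)) = s • H⁻¹ := by
      rw [Matrix.mul_smul, mul_one]
    have htr : (s • H⁻¹).trace = s * (H.trace / d) := by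
      rw [Matrix.trace_smul, Choice.trace_inv_two, h2, smul_eq_mul]
    refine ⟨H, h1, h2, fun hsc => h1 ?_, ?_, ?_, fun _ e => ⟨h8 (by rw [e]), ?_⟩⟩
    · obtain ⟨c, hc⟩ := hsc
      rw [hmul] at hc
      have hi : IsScalarMat H⁻¹ := ⟨c / s, by
        rw [div_eq_inv_mul, ← smul_smul, ← hc, smul_smul, inv_mul_cancel₀ hs, one_smul]⟩
      exact Choice.isScalarMat_inv hH0 hi
    · rw [hmul, htr]; intro e; exact h3 (by rw [← e]; field_simp)
    · rw [hmul, htr]; intro e; exact h4 (by rw [← e]; field_simp)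
    · rw [hmul, htr, det_smul, det_nonsing_inv, h2, Ring.inverse_eq_inv', Fintype.card_fin]
      intro e'
      refine h8 (by rw [e]) ?_
      rw [h2]
      field_simp at e'
      linear_combination e'
  · obtain ⟨H, h1, h2, -, -, h5, h6, h7⟩ : ∃ H : Matrix (Fin k) (Fin k) F, ¬ IsScalarMat H ∧
        H.det = d ∧ H.trace = H.trace ∧ True ∧
        ¬ IsScalarMat (H⁻¹ * (s • (1 : Matrix (Fin k) (Fin k) F))) ∧
        (H⁻¹ * (s • (1 : Matrix (Fin k) (Fin k) F))).trace ≠ g ∧
        (H⁻¹ * (s • (1 : Matrix (Fin k) (Fin k) F))).trace ≠ g' := by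
      -- apply the nonscalar case to the inverse factor
      obtain ⟨A, hA⟩ : ∃ A : Matrix (Fin k) (Fin k) F, ¬ IsScalarMat A := by
        refine ⟨single ⟨0, by omega⟩ ⟨1, by omega⟩ 1, fun ⟨c, hc⟩ => ?_⟩
        have := congrFun (congrFun hc ⟨0, by omega⟩) ⟨1, by omega⟩
        simp [Fin.ext_iff] at this
      obtain ⟨G, g1, g2, g3, g4, -, -, -⟩ :=
        Choice.exists_large hq hk3 hA (inv_ne_zero hd) (g / s) (g' / s) 0 0
      have hG0 : G.det ≠ 0 := g2 ▸ inv_ne_zero hd
      have hinv : (G⁻¹)⁻¹ = G := nonsing_inv_nonsing_inv _ (isUnit_iff_ne_zero.2 hG0)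
      refine ⟨G⁻¹, fun h => g1 (Choice.isScalarMat_inv hG0 h), ?_, rfl, trivial, ?_, ?_, ?_⟩
      · rw [det_nonsing_inv, g2, Ring.inverse_eq_inv', inv_inv]
      · rintro ⟨c, hc⟩
        rw [hinv, Matrix.mul_smul, mul_one] at hc
        exact g1 ⟨c / s, by rw [div_eq_inv_mul, ← smul_smul, ← hc, smul_smul, inv_mul_cancel₀ hs, one_smul]⟩
      · rw [hinv, Matrix.mul_smul, mul_one, Matrix.trace_smul, smul_eq_mul]
        intro e; exact g3 (by rw [← e, mul_div_cancel_left₀ _ hs])
      · rw [hinv, Matrix.mul_smul, mul_one, Matrix.trace_smul, smul_eq_mul]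
        intro e; exact g4 (by rw [← e, mul_div_cancel_left₀ _ hs])
    exact ⟨H, h1, h2, h5, h6, h7, fun e => absurd e (by omega)⟩

end CfsgLib.Lev
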