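import Cfsg.Agent.Lib.Lev.Defs
import Mathlib.LinearAlgebra.Projection
import Mathlib.LinearAlgebra.FiniteDimensional.Lemmas
import Mathlib.LinearAlgebra.Matrix.ToLin
import Mathlib.LinearAlgebra.Matrix.Basis
import Mathlib.LinearAlgebra.Matrix.ToLinearEquiv
import Mathlib.LinearAlgebra.Matrix.Charpoly.Coeff
import Mathlib.RingTheory.Polynomial.Basic
import Mathlib.RingTheory.UniqueFactorizationDomain.Basic

/-!
Covering number of `PSL n q` (Lev): a matrix with primary characteristic polynomial has an invariant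
subspace on which the characteristic polynomial is the irreducible factor.
-/

set_option autoImplicit false

namespace CfsgLib.Lev.Primary

open Matrix Polynomial

variable {F : Type*} [Field F]

/-- An invariant subspace of dimension the degree of the irreducible factor. -/
theorem exists_invariant_primary {ι : Type*} [Fintype ι] [DecidableEq ι] {p : F[X]}
    (hp : Irreducible p) (hpm : p.Monic) {e : ℕ} {x : Matrix ι ι F} (hx : x.charpoly = p ^ e)
    (hne : Nonempty ι) :
    ∃ W : Submodule F (ι → F), Module.finrank F W = p.natDegree ∧ ∀ w ∈ W, x *ᵥ w ∈ W := by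
  have hdet : (aeval x p).det = 0 := by
    have h := congrArg Matrix.det (show (aeval x p) ^ e = 0 by
      rw [← map_pow, ← hx, aeval_self_charpoly])
    rw [det_pow, det_zero] at h
    exact eq_zero_of_pow_eq_zero h
  obtain ⟨v, hv, hpv⟩ := Matrix.exists_mulVec_eq_zero_iff.2 hdet
  let φ : F[X] →ₗ[F] (ι → F) :=
    { toFun := fun f => aeval x f *ᵥ v
      map_add' := fun a b => by rw [map_add, add_mulVec]
      map_smul' := fun c a => by rw [map_smul, smul_mulVec, RingHom.id_apply] }
  have hkill : ∀ f, φ (f %ₘ p) = φ f := by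
    intro f
    show aeval x (f %ₘ p) *ᵥ v = aeval x f *ᵥ v
    conv_rhs => rw [← modByMonic_add_div f p, mul_comm p]
    rw [map_add, map_mul, add_mulVec, ← mulVec_mulVec, hpv, mulVec_zero, add_zero]
  have hinj : Function.Injective (φ.comp (degreeLT F p.natDegree).subtype) := by
    rw [injective_iff_map_eq_zero]
    rintro ⟨f, hf⟩ h0
    rw [mem_degreeLT] at hf
    refine Subtype.ext ?_
    by_contra hf0
    have hnd : ¬ p ∣ f := fun hd => by
      have := degree_le_of_dvd hd hf0
      rw [degree_eq_natDegree hpm.ne_zero] at this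
      exact absurd (lt_of_le_of_lt this hf) (lt_irrefl _)
    obtain ⟨a, b, hab⟩ := hp.coprime_iff_not_dvd.2 hnd
    refine hv ?_
    calc v = aeval x (a * p + b * f) *ᵥ v := by rw [hab, map_one, one_mulVec]
      _ = 0 := by
        rw [map_add, map_mul, map_mul, add_mulVec, ← mulVec_mulVec, hpv, ← mulVec_mulVec,
          show aeval x f *ᵥ v = 0 from h0, mulVec_zero, mulVec_zero, add_zero]
  refine ⟨LinearMap.range (φ.comp (degreeLT F p.natDegree).subtype), ?_, ?_⟩
  · rw [LinearMap.finrank_range_of_inj hinj, (degreeLTEquiv F p.natDegree).finrank_eq,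
      Module.finrank_fin_fun]
  · rintro w ⟨⟨f, hf⟩, rfl⟩
    refine ⟨⟨(X * f) %ₘ p, ?_⟩, ?_⟩
    · rw [mem_degreeLT, ← degree_eq_natDegree hpm.ne_zero]
      exact degree_modByMonic_lt _ hpm
    · show φ ((X * f) %ₘ p) = x *ᵥ (aeval x f *ᵥ v)
      rw [hkill, mulVec_mulVec]
      show aeval x (X * f) *ᵥ v = _
      rw [map_mul, aeval_X]

/-- A monic divisor of a power of a monic irreducible polynomial of the same degree is that polynomial. -/
theorem eq_of_dvd_pow {p q : F[X]} (hp : Irreducible p) (hpm : p.Monic) (hqm : q.Monic) {e : ℕ}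
    (hd : q ∣ p ^ e) (hdeg : q.natDegree = p.natDegree) : q = p := by
  obtain ⟨i, -, hi⟩ := (dvd_prime_pow hp.prime e).1 hd
  have h := eq_of_monic_of_associated hqm (hpm.pow i) hi
  have hi1 : i * p.natDegree = 1 * p.natDegree := by
    rw [one_mul, ← natDegree_pow, ← h, hdeg]
  rw [Nat.eq_of_mul_eq_mul_right hp.natDegree_pos hi1, pow_one] at h
  exact h

/-- The block triangular form. -/
theorem exists_flag {k r : ℕ} {p : F[X]} (hp : Irreducible p) (hpm : p.Monic) (hpk : p.natDegree = k)
    {e : ℕ} {x : Matrix (Fin k ⊕ Fin r) (Fin k ⊕ Fin r) F} (hx : x.charpoly = p ^ (e + 1)) :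
    ∃ K u x₁, Orb x (fromBlocks K u 0 x₁) ∧ K.charpoly = p ∧ x₁.charpoly = p ^ e := by
  classical
  have hk : 1 ≤ k := hpk ▸ hp.natDegree_pos
  obtain ⟨W, hW, hinv⟩ := exists_invariant_primary hp hpm hx ⟨Sum.inl ⟨0, hk⟩⟩
  rw [hpk] at hW
  obtain ⟨W', hc⟩ := W.exists_isCompl
  have hW' : Module.finrank F W' = r := by
    have h := Submodule.finrank_add_eq_of_isCompl hc
    rw [hW, Module.finrank_fintype_fun_eq_card, Fintype.card_sum, Fintype.card_fin,
      Fintype.card_fin] at h
    omega
  let b₁ : Module.Basis (Fin k) F W := Module.finBasisOfFinrankEq F W hW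
  let b₂ : Module.Basis (Fin r) F W' := Module.finBasisOfFinrankEq F W' hW'
  let B : Module.Basis (Fin k ⊕ Fin r) F ((Fin k ⊕ Fin r) → F) :=
    (b₁.prod b₂).map (Submodule.prodEquivOfIsCompl W W' hc)
  let c := Pi.basisFun F (Fin k ⊕ Fin r)
  set M := LinearMap.toMatrix B B (Matrix.toLin' x) with hM
  set P := B.toMatrix c with hP
  have hPM : P * x = M * P := by
    have hxc : LinearMap.toMatrix c c (Matrix.toLin' x) = x := by
      rw [show LinearMap.toMatrix c c = LinearMap.toMatrix' from LinearMap.toMatrix_eq_toMatrix',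
        LinearMap.toMatrix'_toLin']
    rw [hP, hM, linearMap_toMatrix_mul_basis_toMatrix]
    conv_lhs => rw [← hxc, basis_toMatrix_mul_linearMap_toMatrix]
  have hPd : P.det ≠ 0 := by
    let := B.invertibleToMatrix c
    exact (isUnit_det_of_invertible _).ne_zero
  have hlow : M.toBlocks₂₁ = 0 := by
    ext i j
    show M (Sum.inr i) (Sum.inl j) = 0
    have hw : (B (Sum.inl j) : (Fin k ⊕ Fin r) → F) ∈ W := by
      simp [B]
    have hxw : Matrix.toLin' x (B (Sum.inl j)) ∈ W := hinv _ hw
    have e2 : (Submodule.prodEquivOfIsCompl W W' hc).symm (Matrix.toLin' x (B (Sum.inl j))) =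
        (⟨_, hxw⟩, 0) :=
      Submodule.prodEquivOfIsCompl_symm_apply_left W W' hc ⟨_, hxw⟩
    rw [hM, LinearMap.toMatrix_apply]
    show ((b₁.prod b₂).map (Submodule.prodEquivOfIsCompl W W' hc)).repr _ (Sum.inr i) = 0
    rw [Module.Basis.map_repr, LinearEquiv.trans_apply, e2]
    simp
  -- scale one vector to reach determinant one
  set s : Fin k ⊕ Fin r → F := Function.update 1 (Sum.inl ⟨0, hk⟩) P.det⁻¹ with hs
  have hs0 : ∀ i, s i ≠ 0 := fun i => by
    rw [hs, Function.update_apply]; split <;> simp [hPd]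
  have hsd : (diagonal s).det = P.det⁻¹ := by
    rw [det_diagonal, hs]; simp [Finset.prod_update_of_mem]
  set N := diagonal s * M * diagonal (fun i => (s i)⁻¹) with hN
  have hNorb : Orb x N := by
    refine ⟨diagonal s * P, by rw [det_mul, hsd, inv_mul_cancel₀ hPd], ?_⟩
    have e1 : (diagonal fun i => (s i)⁻¹) * diagonal s = 1 := by
      rw [diagonal_mul_diagonal, ← diagonal_one]
      congr 1; funext i; exact inv_mul_cancel₀ (hs0 i)
    calc diagonal s * P * x = diagonal s * M * P := by rw [Matrix.mul_assoc, hPM, ← Matrix.mul_assoc]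
      _ = N * (diagonal s * P) := by
        rw [hN, Matrix.mul_assoc _ (diagonal fun i => (s i)⁻¹), ← Matrix.mul_assoc
          (diagonal fun i => (s i)⁻¹), e1, Matrix.one_mul]
  have hNlow : N.toBlocks₂₁ = 0 := by
    ext i j
    show N (Sum.inr i) (Sum.inl j) = 0
    have := congrFun (congrFun hlow i) j
    change M (Sum.inr i) (Sum.inl j) = 0 at this
    rw [hN, mul_diagonal, diagonal_mul, this, mul_zero, zero_mul]
  have hNb : N = fromBlocks N.toBlocks₁₁ N.toBlocks₁₂ 0 N.toBlocks₂₂ := by
    rw [← hNlow, fromBlocks_toBlocks]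
  have hprod : N.toBlocks₁₁.charpoly * N.toBlocks₂₂.charpoly = p ^ (e + 1) := by
    rw [← charpoly_fromBlocks_zero₂₁ N.toBlocks₁₁ N.toBlocks₁₂ N.toBlocks₂₂, ← hNb, ← hx]
    obtain ⟨h, hd, he⟩ := hNorb
    have hu : IsUnit h.det := by rw [hd]; exact isUnit_one
    rw [show N = h * x * h⁻¹ by rw [he, Matrix.mul_assoc, mul_nonsing_inv _ hu, Matrix.mul_one]]
    exact charpoly_units_conj ⟨h, h⁻¹, mul_nonsing_inv _ hu, nonsing_inv_mul _ hu⟩ x
  have hK : N.toBlocks₁₁.charpoly = p :=
    eq_of_dvd_pow hp hpm (charpoly_monic _) ⟨_, hprod.symm⟩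
      (by rw [charpoly_natDegree_eq_dim, Fintype.card_fin, hpk])
  refine ⟨_, _, _, hNb ▸ hNorb, hK, ?_⟩
  rw [hK, pow_succ'] at hprod
  exact mul_left_cancel₀ hpm.ne_zero hprod

end CfsgLib.Lev.Primary
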