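import Cfsg.Agent.Lib.Lev.Defs
import Mathlib.LinearAlgebra.Matrix.Charpoly.Coeff
import Mathlib.LinearAlgebra.Matrix.Trace
import Mathlib.LinearAlgebra.Dimension.Constructions
import Mathlib.LinearAlgebra.Matrix.ToLin
import Mathlib.LinearAlgebra.FiniteDimensional.Lemmas
import Mathlib.RingTheory.Polynomial.Basic

/-!
Primary classes without eigenvalue: one half of the factors in block upper triangular form.

An item `(K, y, u)` stands for the matrix `[[K, u], [0, y]]`.
-/

set_option autoImplicit false
set_option linter.unusedSectionVars false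
set_option linter.unusedSimpArgs false

namespace CfsgLib.Lev.Primary

open Matrix

variable {F : Type*} [Field F]
variable {κ ρ : Type*} [Fintype κ] [DecidableEq κ] [Fintype ρ] [DecidableEq ρ]

/-- Upper right corner of the product of the block triangular matrices. -/
def comb : List (Matrix κ κ F × Matrix ρ ρ F × Matrix κ ρ F) → Matrix κ ρ F
  | [] => 0
  | (K, _, u) :: t => u * (t.map fun i => i.2.1).prod + K * comb t

/-- The block matrix of an item. -/
def blk (i : Matrix κ κ F × Matrix ρ ρ F × Matrix κ ρ F) : Matrix (κ ⊕ ρ) (κ ⊕ ρ) F :=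
  fromBlocks i.1 i.2.2 0 i.2.1

theorem prod_blk (t : List (Matrix κ κ F × Matrix ρ ρ F × Matrix κ ρ F)) :
    (t.map blk).prod = fromBlocks (t.map fun i => i.1).prod (comb t) 0 (t.map fun i => i.2.1).prod := by
  induction t with
  | nil => simp [comb, fromBlocks_one]
  | cons i t ih =>
    obtain ⟨K, y, u⟩ := i
    rw [List.map_cons, List.prod_cons, ih, blk, fromBlocks_multiply]
    simp [comb, add_comm]

/-- Shift of an item by conjugation with `[[1, r], [0, 1]]`. -/
def shift (i : (Matrix κ κ F × Matrix ρ ρ F × Matrix κ ρ F) × Matrix κ ρ F) :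
    Matrix κ κ F × Matrix ρ ρ F × Matrix κ ρ F :=
  (i.1.1, i.1.2.1, i.1.2.2 + (i.2 * i.1.2.1 - i.1.1 * i.2))

theorem orb_blk_shift (i : (Matrix κ κ F × Matrix ρ ρ F × Matrix κ ρ F) × Matrix κ ρ F) :
    Orb (blk i.1) (blk (shift i)) := by
  obtain ⟨⟨K, y, u⟩, r⟩ := i
  refine ⟨fromBlocks 1 r 0 1, by rw [det_fromBlocks_zero₂₁, det_one, det_one, one_mul], ?_⟩
  simp only [blk, shift, fromBlocks_multiply]
  congr 1 <;> simp
  abel

/-- The linear part of the corner map. -/
def combLin : (t : List (Matrix κ κ F × Matrix ρ ρ F × Matrix κ ρ F)) →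
    (Fin t.length → Matrix κ ρ F) →ₗ[F] Matrix κ ρ F
  | [] => 0
  | i :: t =>
    { toFun := fun r => (r 0 * i.2.1 - i.1 * r 0) * (t.map fun j => j.2.1).prod +
        i.1 * combLin t fun j => r j.succ
      map_add' := fun r s => by
        rw [show (fun j : Fin t.length => (r + s) j.succ) =
          (fun j => r j.succ) + fun j => s j.succ from rfl, map_add]
        simp only [Pi.add_apply, add_mul, mul_add, sub_mul, Matrix.add_mul, Matrix.mul_add,
          Matrix.sub_mul]
        abel
      map_smul' := fun c r => by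
        rw [show (fun j : Fin t.length => (c • r) j.succ) = c • fun j => r j.succ from rfl,
          map_smul]
        simp [Matrix.smul_mul, Matrix.mul_smul, ← smul_sub, smul_add] }

/-- Replace the items by their shifts. -/
def shiftAll : (t : List (Matrix κ κ F × Matrix ρ ρ F × Matrix κ ρ F)) →
    (Fin t.length → Matrix κ ρ F) → List (Matrix κ κ F × Matrix ρ ρ F × Matrix κ ρ F)
  | [], _ => []
  | i :: t, r => shift (i, r 0) :: shiftAll t fun j => r j.succ

theorem shiftAll_fst (t : List (Matrix κ κ F × Matrix ρ ρ F × Matrix κ ρ F)) :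
    ∀ r, (shiftAll t r).map (fun i => i.1) = t.map fun i => i.1 := by
  induction t with
  | nil => intro r; rfl
  | cons i t ih => intro r; simp [shiftAll, shift, ih]

theorem shiftAll_snd (t : List (Matrix κ κ F × Matrix ρ ρ F × Matrix κ ρ F)) :
    ∀ r, (shiftAll t r).map (fun i => i.2.1) = t.map fun i => i.2.1 := by
  induction t with
  | nil => intro r; rfl
  | cons i t ih => intro r; simp [shiftAll, shift, ih]

theorem shiftAll_orb (t : List (Matrix κ κ F × Matrix ρ ρ F × Matrix κ ρ F)) :
    ∀ r, List.Forall₂ Orb (t.map blk) ((shiftAll t r).map blk) := by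
  induction t with
  | nil => intro r; exact List.Forall₂.nil
  | cons i t ih => intro r; exact List.Forall₂.cons (orb_blk_shift (i, r 0)) (ih _)

theorem comb_shiftAll (t : List (Matrix κ κ F × Matrix ρ ρ F × Matrix κ ρ F)) :
    ∀ r, comb (shiftAll t r) = comb t + combLin t r := by
  induction t with
  | nil => intro r; simp [shiftAll, combLin]
  | cons i t ih =>
    intro r
    obtain ⟨K, y, u⟩ := i
    simp only [shiftAll, shift, comb, ih, shiftAll_snd]
    simp only [combLin, LinearMap.coe_mk, AddHom.coe_mk]
    rw [Matrix.add_mul, Matrix.mul_add]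
    abel

omit [DecidableEq κ] [DecidableEq ρ] in
theorem eq_zero_of_trace {z : Matrix ρ κ F} (h : ∀ r : Matrix κ ρ F, (z * r).trace = 0) : z = 0 := by
  classical
  ext a b
  have := h (Matrix.single b a 1)
  simpa [Matrix.trace_mul_single] using this

/-- A functional killing the linear part gives an intertwiner modulo `R`. -/
theorem ann (R : Submodule F (Matrix ρ κ F))
    (t : List (Matrix κ κ F × Matrix ρ ρ F × Matrix κ ρ F)) :
    (∀ i ∈ t, ∀ z ∈ R, i.2.1 * z ∈ R ∧ ∀ K : Matrix κ κ F, z * K ∈ R) →
    ∀ w : Matrix ρ κ F,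
      (∀ r, (∀ j, ∀ z ∈ R, (z * r j).trace = 0) → (w * combLin t r).trace = 0) →
      (∀ z : Matrix ρ κ F,
        (∀ s : Matrix κ ρ F, (∀ z' ∈ R, (z' * s).trace = 0) → (z * s).trace = 0) → z ∈ R) →
      ∀ i ∈ t, i.2.1 * ((t.map fun j => j.2.1).prod * w) - ((t.map fun j => j.2.1).prod * w) * i.1
        ∈ R := by
  induction t with
  | nil => simp
  | cons i0 t ih =>
    intro hR w hw hdual i hi
    obtain ⟨K, y, u⟩ := i0
    set Y := (t.map fun j => j.2.1).prod with hY
    have h1 : y * (Y * w) - (Y * w) * K ∈ R := hdual _ fun s hs => by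
      have := hw (Fin.cons s fun _ => 0) (by
        intro j
        refine Fin.cases (fun z hz => ?_) (fun j z hz => ?_) j
        · simpa using hs z hz
        · simp)
      simp only [combLin, LinearMap.coe_mk, AddHom.coe_mk, Fin.cons_zero, Fin.cons_succ] at this
      rw [show (fun _ : Fin t.length => (0 : Matrix κ ρ F)) = 0 from rfl, map_zero, Matrix.mul_zero,
        add_zero, ← hY, Matrix.sub_mul, Matrix.mul_sub, trace_sub] at this
      rw [Matrix.sub_mul, trace_sub, ← this]
      congr 1
      · calc (y * (Y * w) * s).trace = (y * Y * (w * s)).trace := by simp only [Matrix.mul_assoc]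
          _ = (w * s * (y * Y)).trace := Matrix.trace_mul_comm _ _
          _ = (w * (s * y * Y)).trace := by simp only [Matrix.mul_assoc]
      · calc (Y * w * K * s).trace = (Y * (w * K * s)).trace := by simp only [Matrix.mul_assoc]
          _ = (w * K * s * Y).trace := Matrix.trace_mul_comm _ _
          _ = (w * (K * s * Y)).trace := by simp only [Matrix.mul_assoc]
    have h2 := ih (fun j hj => hR j (List.mem_cons_of_mem _ hj)) (w * K) (fun r hr => by
      have := hw (Fin.cons 0 r) (by
        intro j
        refine Fin.cases (fun z _ => ?_) (fun j z hz => ?_) j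
        · simp
        · simpa using hr j z hz)
      simp only [combLin, LinearMap.coe_mk, AddHom.coe_mk, Fin.cons_zero, Fin.cons_succ] at this
      simpa [Matrix.mul_assoc] using this) hdual
    rw [← Matrix.mul_assoc Y w K] at h2
    simp only [List.map_cons, List.prod_cons, ← hY, Matrix.mul_assoc y Y w]
    set v := Y * w
    rcases List.mem_cons.1 hi with rfl | hi'
    · have e : y * (y * v) - y * v * K = y * (y * v - v * K) := by
        rw [Matrix.mul_sub, Matrix.mul_assoc]
      rw [e]; exact (hR _ List.mem_cons_self _ h1).1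
    · have e : i.2.1 * (y * v) - y * v * i.1 = i.2.1 * (y * v - v * K) - (y * v - v * K) * i.1 +
          (i.2.1 * (v * K) - v * K * i.1) := by
        simp only [Matrix.mul_sub, Matrix.sub_mul]; abel
      rw [e]
      exact R.add_mem (R.sub_mem (hR i hi _ h1).1 ((hR i hi _ h1).2 _)) (h2 i hi')

/-- Every vector is a polynomial image of a given nonzero one. -/
theorem exists_aeval_mulVec {K : Matrix κ κ F} (hK : Irreducible K.charpoly) {v : κ → F}
    (hv : v ≠ 0) (u : κ → F) : ∃ q : Polynomial F, Polynomial.aeval K q *ᵥ v = u := by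
  set k := Fintype.card κ with hk
  let L : Polynomial.degreeLT F k →ₗ[F] (κ → F) :=
    { toFun := fun q => Polynomial.aeval K (q : Polynomial F) *ᵥ v
      map_add' := fun q r => by simp [add_mulVec]
      map_smul' := fun c q => by simp [smul_mulVec] }
  have hinj : Function.Injective L := by
    rw [← LinearMap.ker_eq_bot, Submodule.eq_bot_iff]
    intro q hq
    by_contra hne
    have hq0 : (q : Polynomial F) ≠ 0 := fun h => hne (Subtype.ext h)
    have hdeg : (q : Polynomial F).natDegree < K.charpoly.natDegree := by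
      rw [Matrix.charpoly_natDegree_eq_dim, Polynomial.natDegree_lt_iff_degree_lt hq0]
      exact Polynomial.mem_degreeLT.1 q.2
    obtain ⟨a, b, hab⟩ := hK.coprime_iff_not_dvd.2 fun hd =>
      absurd (Polynomial.natDegree_le_of_dvd hd hq0) (not_le.2 hdeg)
    have h1 := congrArg (Polynomial.aeval K) hab
    rw [map_add, map_mul, map_mul, map_one, Matrix.aeval_self_charpoly, mul_zero, zero_add] at h1
    refine hv ?_
    calc v = (1 : Matrix κ κ F) *ᵥ v := (one_mulVec v).symm
      _ = Polynomial.aeval K b *ᵥ L q := by rw [← h1, ← mulVec_mulVec]; rfl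
      _ = 0 := by rw [LinearMap.mem_ker.1 hq, mulVec_zero]
  haveI : FiniteDimensional F (Polynomial.degreeLT F k) :=
    LinearEquiv.finiteDimensional (Polynomial.degreeLTEquiv F k).symm
  have hsurj : Function.Surjective L := by
    refine (LinearMap.injective_iff_surjective_of_finrank_eq_finrank ?_).1 hinj
    rw [(Polynomial.degreeLTEquiv F k).finrank_eq, Module.finrank_fin_fun, Module.finrank_pi, hk]
  obtain ⟨q, hq⟩ := hsurj u
  exact ⟨q, hq⟩

theorem aeval_intertwine {K : Matrix κ κ F} {y : Matrix ρ ρ F} {w : Matrix ρ κ F}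
    (h : y * w = w * K) (q : Polynomial F) :
    Polynomial.aeval y q * w = w * Polynomial.aeval K q := by
  induction q using Polynomial.induction_on with
  | C a => simp [Algebra.algebraMap_eq_smul_one]
  | add p q hp hq => simp [Matrix.add_mul, Matrix.mul_add, hp, hq]
  | monomial n a hp =>
    rw [pow_succ, ← mul_assoc]
    simp only [map_mul, Polynomial.aeval_X] at hp ⊢
    rw [Matrix.mul_assoc, h, ← Matrix.mul_assoc, hp]
    simp only [Matrix.mul_assoc]

/-- Intertwiners out of an irreducible block are zero or injective. -/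
theorem injective_of_intertwine {K : Matrix κ κ F} (hK : Irreducible K.charpoly)
    {y : Matrix ρ ρ F} {w : Matrix ρ κ F} (h : y * w = w * K) (hw : w ≠ 0) :
    Function.Injective w.mulVec := by
  have key : ∀ v, w *ᵥ v = 0 → v = 0 := by
    intro v hv
    by_contra hne
    refine hw (Matrix.ext_iff_mulVec.2 fun u => ?_)
    obtain ⟨q, rfl⟩ := exists_aeval_mulVec hK hne u
    rw [zero_mulVec, mulVec_mulVec, ← aeval_intertwine h, ← mulVec_mulVec, hv, mulVec_zero]
  intro a b hab
  exact sub_eq_zero.1 (key _ (by rw [mulVec_sub, hab, sub_self]))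

end CfsgLib.Lev.Primary
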