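import Cfsg.Agent.Lib.Lev.Primary.Step
import Cfsg.Agent.Lib.Lev.IrredOrb
import Mathlib.LinearAlgebra.Matrix.Charpoly.Coeff

/-!
Primary classes without eigenvalue: assembling half lists.
-/

set_option autoImplicit false
set_option linter.unusedSectionVars false

namespace CfsgLib.Lev.Primary

open Matrix Polynomial

variable {F : Type*} [Field F]
variable {κ ρ ι : Type*} [Fintype κ] [DecidableEq κ] [Fintype ρ] [DecidableEq ρ] [Fintype ι]
  [DecidableEq ι]

theorem orb_transpose {x y : Matrix ι ι F} (h : Orb x y) : Orb xᵀ yᵀ := by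
  obtain ⟨k, kd, ke⟩ := h.symm
  refine ⟨kᵀ, by rw [det_transpose, kd], ?_⟩
  rw [← transpose_mul, ← transpose_mul, ke]

theorem orb_charpoly {x y : Matrix ι ι F} (h : Orb x y) : y.charpoly = x.charpoly := by
  obtain ⟨k, kd, ke⟩ := h
  have hu : IsUnit k := (Matrix.isUnit_iff_isUnit_det _).2 (by rw [kd]; exact isUnit_one)
  obtain ⟨u, rfl⟩ := hu
  have : y = u.val * x * u⁻¹.val := by rw [ke, Matrix.mul_assoc, Units.mul_inv, Matrix.mul_one]
  rw [this, Matrix.coe_units_inv, Matrix.charpoly_units_conj]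

/-- The determinant of a matrix with characteristic polynomial `p`. -/
noncomputable def pdet (p : F[X]) : F := (-1) ^ p.natDegree * p.coeff 0

theorem det_of_charpoly {x : Matrix ι ι F} {p : F[X]} {e : ℕ} (h : x.charpoly = p ^ e) :
    x.det = pdet p ^ e := by
  rw [Matrix.det_eq_sign_charpoly_coeff, h, ← Matrix.charpoly_natDegree_eq_dim x, h,
    natDegree_pow, pdet, mul_pow, coeff_zero_eq_eval_zero, eval_pow, ← coeff_zero_eq_eval_zero,
    ← pow_mul, mul_comm e]

theorem pdet_ne_zero {p : F[X]} (hp : Irreducible p) (hk : 2 ≤ p.natDegree) : pdet p ≠ 0 := by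
  refine mul_ne_zero (pow_ne_zero _ (by norm_num)) fun h => ?_
  obtain ⟨q, hq⟩ := X_dvd_iff.2 h
  have hu := (hp.isUnit_or_isUnit hq).resolve_left not_isUnit_X
  have hq0 : q ≠ 0 := hu.ne_zero
  rw [hq, natDegree_mul X_ne_zero hq0, natDegree_X, natDegree_eq_zero_of_isUnit hu] at hk
  omega

theorem list_det {l : List (Matrix ι ι F)} {d : F} (h : ∀ x ∈ l, x.det = d) :
    l.prod.det = d ^ l.length := by
  induction l with
  | nil => simp
  | cons a t ih =>
    rw [List.prod_cons, det_mul, h a List.mem_cons_self, ih (fun x hx => h x (List.mem_cons_of_mem _ hx)),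
      List.length_cons, pow_succ, mul_comm]

theorem forall₂_orb_det {l y : List (Matrix ι ι F)} (h : List.Forall₂ Orb l y) :
    y.prod.det = l.prod.det := by
  induction h with
  | nil => rfl
  | cons h _ ih => rw [List.prod_cons, List.prod_cons, det_mul, det_mul, ih, h.det_eq]

theorem forall₂_orb_charpoly {l y : List (Matrix ι ι F)} (h : List.Forall₂ Orb l y) {q : F[X]}
    (hl : ∀ x ∈ l, x.charpoly = q) : ∀ x ∈ y, x.charpoly = q := by
  induction h with
  | nil => simp
  | cons h _ ih =>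
    intro x hx
    rcases List.mem_cons.1 hx with rfl | hx
    · rw [orb_charpoly h]; exact hl _ List.mem_cons_self
    · exact ih (fun z hz => hl z (List.mem_cons_of_mem _ hz)) x hx

/-- Products of conjugates of irreducible matrices with a common characteristic polynomial. -/
theorem exists_list [Fintype F] {k : ℕ} (hk : 2 ≤ k) (hI : IrredSpec F) {p : F[X]} (hp : Irreducible p)
    {l : List (Matrix (Fin k) (Fin k) F)} (hl : ∀ x ∈ l, x.charpoly = p) (hlen : k ≤ l.length)
    {H : Matrix (Fin k) (Fin k) F} (hH : ¬ IsScalarMat H) (hHd : H.det = pdet p ^ l.length)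
    (hdbl : k = 2 → l.length = 2 → H.trace ^ 2 ≠ 4 * H.det) :
    ∃ y, List.Forall₂ Orb l y ∧ y.prod = H ∧ ∀ x ∈ y, x.charpoly = p := by
  obtain ⟨x0, hx0⟩ : ∃ x0, x0 ∈ l := List.exists_mem_of_length_pos (by omega)
  have hd : x0.det = pdet p := by rw [det_of_charpoly (e := 1) (by rw [hl x0 hx0, pow_one]), pow_one]
  obtain ⟨y, h1, h2⟩ := hI k x0 hk (by rw [hl x0 hx0]; exact hp) l.length H (by rw [hHd, hd])
    (Or.inl ⟨hH, hlen, hdbl⟩)
  have key : ∀ (l' y : List (Matrix (Fin k) (Fin k) F)), (∀ x ∈ l', x.charpoly = p) →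
      List.Forall₂ Orb (List.replicate l'.length x0) y → List.Forall₂ Orb l' y := by
    intro l'
    induction l' with
    | nil => intro y _ h; simpa using h
    | cons a t ih =>
      intro y ha h
      cases h with
      | cons h h' =>
        refine List.Forall₂.cons (Orb.trans ?_ h) (ih _ (fun z hz => ha z (List.mem_cons_of_mem _ hz)) h')
        exact orb_of_irreducible (by rw [ha a List.mem_cons_self]; exact hp)
          (by rw [hl x0 hx0, ha a List.mem_cons_self])
  refine ⟨y, key l y hl h1, h2, forall₂_orb_charpoly (key l y hl h1) hl⟩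

/-- An upper flag transported to given conjugates of the diagonal blocks. -/
theorem exists_items :
    ∀ {xs : List (Matrix (κ ⊕ ρ) (κ ⊕ ρ) F)}
      {cs : List (Matrix κ κ F × Matrix ρ ρ F)},
      List.Forall₂ (fun x c => ∃ K u y, Orb x (fromBlocks K u 0 y) ∧ Orb K c.1 ∧ Orb y c.2) xs cs →
      ∃ t : List (Matrix κ κ F × Matrix ρ ρ F × Matrix κ ρ F),
        List.Forall₂ Orb xs (t.map blk) ∧ (t.map fun i => i.1) = cs.map Prod.fst ∧
          (t.map fun i => i.2.1) = cs.map Prod.snd := by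
  intro xs cs h
  induction h with
  | nil => exact ⟨[], List.Forall₂.nil, rfl, rfl⟩
  | @cons x c xs cs hx _ ih =>
    obtain ⟨K, u, y, ho, ⟨a, ad, ae⟩, b, bd, be⟩ := hx
    obtain ⟨t, h1, h2, h3⟩ := ih
    refine ⟨(c.1, c.2, a * u * b⁻¹) :: t, ?_, by simp [h2], by simp [h3]⟩
    refine List.Forall₂.cons (ho.trans ?_) h1
    have hb : IsUnit b.det := by rw [bd]; exact isUnit_one
    refine ⟨fromBlocks a 0 0 b, by rw [det_fromBlocks_zero₂₁, ad, bd, one_mul], ?_⟩
    simp [blk, fromBlocks_multiply, ae, be, Matrix.mul_assoc, nonsing_inv_mul _ hb]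

/-- The socle predicate is invariant under reindexing. -/
theorem Sub.reindex {ys : List (Matrix ρ ρ F)} {f f' : F} (h : Sub κ ys f f') (e : ρ ≃ ι) :
    Sub κ (ys.map (Matrix.reindexAlgEquiv F F e)) f f' := by
  obtain ⟨w0, cs, hinj, hcs, hns, hex, hmod⟩ := h
  set R := Matrix.reindexAlgEquiv F F e with hR
  have hmul : ∀ (y : Matrix ρ ρ F) (w : Matrix ρ κ F),
      R y * w.submatrix e.symm id = (y * w).submatrix e.symm id := fun y w => by
    rw [hR, Matrix.coe_reindexAlgEquiv, Matrix.reindex_apply, Matrix.submatrix_mul_equiv]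
  have hmulr : ∀ (w : Matrix ρ κ F) (c : Matrix κ κ F),
      w.submatrix e.symm id * c = (w * c).submatrix e.symm id := fun w c => by
    ext i j; simp [Matrix.mul_apply]
  have hsurj : ∀ w : Matrix ι κ F, w = (w.submatrix e id).submatrix e.symm id := fun w => by
    ext i j; simp
  have hinj' : ∀ a b : Matrix ρ κ F, a.submatrix e.symm id = b.submatrix e.symm id → a = b :=
    fun a b hab => by
      ext i j; simpa using congrFun (congrFun hab (e i)) j
  refine ⟨w0.submatrix e.symm id, cs, fun a b hab => hinj (funext fun i => ?_), ?_, hns, ?_, ?_⟩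
  · simpa [mulVec, dotProduct] using congrFun hab (e i)
  · rw [List.forall₂_map_left_iff]
    exact hcs.imp fun y c hyc => ⟨by rw [hmul, hyc.1, hmulr], hyc.2⟩
  · intro Ks w hKs hw
    rw [List.forall₂_map_left_iff] at hKs
    rw [hsurj w] at hKs hw ⊢
    obtain ⟨h1, c, h2⟩ := hex Ks (w.submatrix e id) (hKs.imp fun y K hyK => ⟨hyK.1, hinj' _ _ (by
      rw [← hmul, ← hmulr]; exact hyK.2)⟩) (fun h0 => hw (by rw [h0]; rfl))
    exact ⟨h1, c, by rw [hmulr, h2]⟩
  · intro Ks w hKs
    rw [List.forall₂_map_left_iff] at hKs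
    rw [hsurj w] at hKs ⊢
    have hKs' : List.Forall₂ (fun y K => Irreducible K.charpoly ∧
        ∃ c : Matrix κ κ F, y * w.submatrix e id - w.submatrix e id * K = w0 * c) ys Ks := by
      refine hKs.imp fun y K hyK => ⟨hyK.1, ?_⟩
      obtain ⟨c, hc⟩ := hyK.2
      refine ⟨c, hinj' _ _ ?_⟩
      rw [← hmulr, ← hc, hmul, hmulr]
      rfl
    rcases hmod Ks (w.submatrix e id) hKs' with ⟨c, hc⟩ | h
    · exact Or.inl ⟨c, by rw [hmulr, hc]⟩
    · exact Or.inr h

/-- The socle predicate of a single irreducible block. -/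
theorem sub_base {k : ℕ} {ys : List (Matrix (Fin k) (Fin k) F)} (hne : ys ≠ [])
    (hirr : ∀ y ∈ ys, Irreducible y.charpoly) (hns : ¬ IsScalarMat ys.prod) (f' : F) :
    Sub (Fin k) ys ys.prod.trace f' := by
  refine ⟨1, ys, fun a b h => by simpa using h, ?_, hns, fun Ks w hKs hw => ?_,
    fun Ks w _ => Or.inl ⟨w, (Matrix.one_mul w).symm⟩⟩
  · rw [List.forall₂_same]
    exact fun y hy => ⟨by rw [Matrix.mul_one, Matrix.one_mul], hirr y hy⟩
  · refine ⟨prod_trace_eq ?_ (hKs.imp fun _ _ h => h.2), w, (Matrix.one_mul w).symm⟩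
    cases hKs with
    | nil => exact absurd rfl hne
    | cons h _ => exact Matrix.mulVec_injective_iff_isUnit.1 (injective_of_intertwine h.1 h.2 hw)

end CfsgLib.Lev.Primary
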