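import Cfsg.Agent.Lib.Lev.Primary.Half
import Mathlib.LinearAlgebra.Dual.Lemmas
import Mathlib.Data.Matrix.ColumnRowPartitioned

/-!
Primary classes without eigenvalue: one induction step for one half of the factors. The half keeps a
simple socle at two levels.
-/

set_option autoImplicit false
set_option linter.unusedSectionVars false
set_option linter.unusedSimpArgs false
set_option maxHeartbeats 800000

namespace CfsgLib.Lev.Primary

open Matrix Module

variable {F : Type*} [Field F]
variable {κ ρ : Type*} [Fintype κ] [DecidableEq κ] [Fintype ρ] [DecidableEq ρ]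

variable (κ) in
/-- The half `ys` has a single irreducible subspace of size `κ`, of trace type `f`; modulo it the
trace type is `f'`. -/
def Sub (ys : List (Matrix ρ ρ F)) (f f' : F) : Prop :=
  ∃ (w0 : Matrix ρ κ F) (cs : List (Matrix κ κ F)), Function.Injective w0.mulVec ∧
    List.Forall₂ (fun y c => y * w0 = w0 * c ∧ Irreducible c.charpoly) ys cs ∧
    ¬ IsScalarMat cs.prod ∧
    (∀ (Ks : List (Matrix κ κ F)) (w : Matrix ρ κ F),
      List.Forall₂ (fun y K => Irreducible K.charpoly ∧ y * w = w * K) ys Ks → w ≠ 0 →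
        Ks.prod.trace = f ∧ ∃ c : Matrix κ κ F, w = w0 * c) ∧
    (∀ (Ks : List (Matrix κ κ F)) (w : Matrix ρ κ F),
      List.Forall₂ (fun y K => Irreducible K.charpoly ∧ ∃ c : Matrix κ κ F, y * w - w * K = w0 * c) ys Ks →
        (∃ c : Matrix κ κ F, w = w0 * c) ∨ Ks.prod.trace = f')

theorem exists_left_inv {w : Matrix ρ κ F} (hw : Function.Injective w.mulVec) :
    ∃ L : Matrix κ ρ F, L * w = 1 := by
  obtain ⟨g, hg⟩ := w.mulVecLin.exists_leftInverse_of_injective (LinearMap.ker_eq_bot.2 hw)
  refine ⟨LinearMap.toMatrix' g, Matrix.toLin'.injective ?_⟩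
  rw [Matrix.toLin'_mul, Matrix.toLin'_toMatrix', Matrix.toLin'_one]
  exact hg

theorem eq_trace (f : Matrix κ ρ F →ₗ[F] F) (s : Matrix κ ρ F) :
    f s = ((Matrix.of fun a b => f (Matrix.single b a 1) : Matrix ρ κ F) * s).trace := by
  conv_lhs => rw [Matrix.matrix_eq_sum_single s]
  simp only [map_sum, Matrix.trace, Matrix.diag, Matrix.mul_apply, Matrix.of_apply]
  rw [Finset.sum_comm]
  refine Finset.sum_congr rfl fun a _ => Finset.sum_congr rfl fun b _ => ?_
  rw [show Matrix.single b a (s b a) = s b a • Matrix.single b a (1 : F) by simp, map_smul,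
    smul_eq_mul, mul_comm]

theorem exists_not_eigen {x : Matrix κ κ F} (hx : ¬ IsScalarMat x) :
    ∃ v : κ → F, ∀ c : F, x *ᵥ v ≠ c • v := by
  classical
  by_contra hne
  push Not at hne
  choose c hc using hne
  rcases isEmpty_or_nonempty κ with hE | ⟨⟨i0⟩⟩
  · exact hx ⟨0, Matrix.ext fun i => (hE.false i).elim⟩
  refine hx ⟨c (Pi.single i0 1), Matrix.ext_iff_mulVec.2 fun v => ?_⟩
  have hcomb : ∀ i, x *ᵥ Pi.single i (1 : F) = c (Pi.single i0 1) • Pi.single i 1 := by
    intro i
    by_cases hi : i = i0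
    · rw [hi]; exact hc _
    have h := hc (Pi.single i0 1 + Pi.single i 1)
    rw [mulVec_add, hc, hc, smul_add] at h
    have e0 := congrFun h i0
    have e1 := congrFun h i
    simp [Ne.symm hi, hi] at e0 e1
    rw [hc, e1, ← e0]
  refine Matrix.toLin'.symm_apply_apply x ▸ ?_
  have : x = c (Pi.single i0 1) • 1 := by
    ext i j
    have := congrFun (hcomb j) i
    simpa [Matrix.one_apply, Pi.single_apply] using this
  simp [← this]

/-- Matrices killing `w0` from the left are reached modulo the image of `w0`. -/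
theorem reach {t : List (Matrix κ κ F × Matrix ρ ρ F × Matrix κ ρ F)}
    (hy : ∀ i ∈ t, i.2.1.det ≠ 0) {w0 : Matrix ρ κ F}
    (hw0 : Function.Injective w0.mulVec ∨ w0 = 0)
    (hinv : ∀ i ∈ t, ∃ c : Matrix κ κ F, i.2.1 * w0 = w0 * c)
    (hno : ∀ w : Matrix ρ κ F, (∀ i ∈ t, ∃ c : Matrix κ κ F, i.2.1 * w - w * i.1 = w0 * c) →
      ∃ c : Matrix κ κ F, w = w0 * c) (X : Matrix κ ρ F) (hX : X * w0 = 0) :
    ∃ r : Fin t.length → Matrix κ ρ F, (∀ j, r j * w0 = 0) ∧ combLin t r = X := by
  let Z : Submodule F (Fin t.length → Matrix κ ρ F) :=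
    { carrier := {r | ∀ j, r j * w0 = 0}
      add_mem' := fun ha hb j => by
        rw [Pi.add_apply, Matrix.add_mul, ha j, hb j, add_zero]
      zero_mem' := fun j => Matrix.zero_mul _
      smul_mem' := fun c r hr j => by rw [Pi.smul_apply, Matrix.smul_mul, hr j, smul_zero] }
  let R : Submodule F (Matrix ρ κ F) :=
    { carrier := {z | ∃ c : Matrix κ κ F, z = w0 * c}
      add_mem' := fun ⟨c, hc⟩ ⟨d, hd⟩ => ⟨c + d, by rw [hc, hd, Matrix.mul_add]⟩
      zero_mem' := ⟨0, by rw [Matrix.mul_zero]⟩
      smul_mem' := fun a z ⟨c, hc⟩ => ⟨a • c, by rw [hc, Matrix.mul_smul]⟩ }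
  by_contra hne
  push Not at hne
  have hX' : X ∉ Z.map (combLin t) := fun ⟨r, hr, he⟩ => hne r (fun j => hr j) he
  obtain ⟨f, hf, hfS⟩ := Submodule.exists_le_ker_of_notMem hX'
  set w : Matrix ρ κ F := Matrix.of fun a b => f (Matrix.single b a 1) with hw
  have key : ∀ s, f s = (w * s).trace := eq_trace f
  have hdual : ∀ z : Matrix ρ κ F,
      (∀ s : Matrix κ ρ F, (∀ z' ∈ R, (z' * s).trace = 0) → (z * s).trace = 0) → z ∈ R := by
    intro z hz
    rcases hw0 with hi | h0
    · obtain ⟨L, hL⟩ := exists_left_inv hi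
      refine ⟨L * z, sub_eq_zero.1 (eq_zero_of_trace fun s => ?_)⟩
      have h1 := hz (s - s * w0 * L) fun z' ⟨c, hc⟩ => by
        rw [hc, Matrix.mul_assoc, Matrix.trace_mul_comm, Matrix.mul_assoc, Matrix.sub_mul,
          Matrix.mul_assoc (s * w0), hL, Matrix.mul_one, sub_self, Matrix.mul_zero, trace_zero]
      rw [Matrix.mul_sub, trace_sub, sub_eq_zero] at h1
      rw [Matrix.sub_mul, trace_sub, h1, sub_eq_zero]
      calc (z * (s * w0 * L)).trace = (z * (s * w0) * L).trace := by simp only [Matrix.mul_assoc]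
        _ = (L * z * (s * w0)).trace := by rw [Matrix.trace_mul_comm]; simp only [Matrix.mul_assoc]
        _ = (L * z * s * w0).trace := by simp only [Matrix.mul_assoc]
        _ = (w0 * (L * z) * s).trace := by rw [Matrix.trace_mul_comm]; simp only [Matrix.mul_assoc]
    · refine ⟨0, ?_⟩
      rw [h0, Matrix.zero_mul]
      exact eq_zero_of_trace fun s => hz s fun z' ⟨c, hc⟩ => by
        rw [hc, h0, Matrix.zero_mul, Matrix.zero_mul, trace_zero]
  have hR : ∀ i ∈ t, ∀ z ∈ R, i.2.1 * z ∈ R ∧ ∀ K : Matrix κ κ F, z * K ∈ R := by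
    intro i hi z ⟨c, hc⟩
    obtain ⟨d, hd⟩ := hinv i hi
    exact ⟨⟨d * c, by rw [hc, ← Matrix.mul_assoc, hd, Matrix.mul_assoc]⟩,
      fun K => ⟨c * K, by rw [hc, Matrix.mul_assoc]⟩⟩
  have h2 := ann R t hR w (fun r hr => by
    rw [← key]
    refine hfS ⟨r, fun j => ?_, rfl⟩
    refine eq_zero_of_trace fun c => ?_
    have := hr j (w0 * c) ⟨c, rfl⟩
    rw [Matrix.mul_assoc w0, Matrix.trace_mul_comm w0] at this
    rw [Matrix.trace_mul_comm]
    simpa only [Matrix.mul_assoc] using this
    ) hdual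
  obtain ⟨c, hc⟩ := hno ((t.map fun j => j.2.1).prod * w) h2
  refine hf ?_
  rw [key]
  set Y := (t.map fun j => j.2.1).prod with hY
  have hdetY : IsUnit Y := by
    refine (Matrix.isUnit_iff_isUnit_det _).2 (isUnit_iff_ne_zero.2 ?_)
    rw [hY, ← Matrix.coe_detMonoidHom, map_list_prod, List.map_map]
    exact List.prod_ne_zero fun h => by
      obtain ⟨i, hi, he⟩ := List.mem_map.1 h; exact hy i hi he
  have hYR : ∀ z ∈ R, Y * z ∈ R := by
    have : ∀ l : List (Matrix ρ ρ F), (∀ y ∈ l, ∀ z ∈ R, y * z ∈ R) → ∀ z ∈ R, l.prod * z ∈ R := by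
      intro l hl
      induction l with
      | nil => intro z hz; rwa [List.prod_nil, Matrix.one_mul]
      | cons y l ih =>
        intro z hz
        rw [List.prod_cons, Matrix.mul_assoc]
        exact hl y List.mem_cons_self _ (ih (fun u hu => hl u (List.mem_cons_of_mem _ hu)) z hz)
    refine this _ fun y hy' z hz => ?_
    obtain ⟨i, hi', rfl⟩ := List.mem_map.1 hy'
    exact (hR i hi' z hz).1
  obtain ⟨Y', hY'⟩ := hdetY.exists_left_inv
  have hYinv : ∃ c', w = w0 * c' := by
    let m : R →ₗ[F] R :=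
      { toFun := fun z => ⟨Y * (z : Matrix ρ κ F), hYR _ z.2⟩
        map_add' := fun a b => Subtype.ext (Matrix.mul_add _ _ _)
        map_smul' := fun a b => Subtype.ext (Matrix.mul_smul _ _ _) }
    have hm : Function.Injective m := fun a b hab => Subtype.ext (by
      have := congrArg (fun z : R => Y' * (z : Matrix ρ κ F)) hab
      simpa [m, ← Matrix.mul_assoc, hY'] using this)
    obtain ⟨⟨z, hz⟩, hz'⟩ := (LinearMap.injective_iff_surjective.1 hm) ⟨Y * w, c, hc⟩
    have := congrArg (fun z : R => Y' * (z : Matrix ρ κ F)) hz'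
    simp only [m, LinearMap.coe_mk, AddHom.coe_mk, ← Matrix.mul_assoc, hY', Matrix.one_mul] at this
    exact this ▸ hz
  obtain ⟨c', hc'⟩ := hYinv
  rw [hc', Matrix.mul_assoc, Matrix.trace_mul_comm, Matrix.mul_assoc, hX, Matrix.mul_zero,
    trace_zero]

theorem prod_intertwine {ys : List (Matrix ρ ρ F)} {Ks : List (Matrix κ κ F)} {w : Matrix ρ κ F}
    (h : List.Forall₂ (fun y K => y * w = w * K) ys Ks) : ys.prod * w = w * Ks.prod := by
  induction h with
  | nil => simp
  | cons h1 _ ih =>
    rw [List.prod_cons, List.prod_cons, Matrix.mul_assoc, ih, ← Matrix.mul_assoc, h1, Matrix.mul_assoc]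

theorem forall₂_fst_snd {t : List (Matrix κ κ F × Matrix ρ ρ F × Matrix κ ρ F)}
    {P : Matrix ρ ρ F → Matrix κ κ F → Prop} :
    List.Forall₂ P (t.map fun i => i.2.1) (t.map fun i => i.1) ↔ ∀ i ∈ t, P i.2.1 i.1 := by
  induction t with
  | nil => simp
  | cons i t ih => simp [ih]

/-- The item seen on the subspace `w0`. -/
def onW (w0 : Matrix ρ κ F) (L : Matrix κ ρ F) (i : Matrix κ κ F × Matrix ρ ρ F × Matrix κ ρ F) :
    Matrix κ κ F × Matrix κ κ F × Matrix κ κ F :=
  (i.1, L * i.2.1 * w0, i.2.2 * w0)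

theorem combLin_onW (w0 : Matrix ρ κ F) (L : Matrix κ ρ F)
    (t : List (Matrix κ κ F × Matrix ρ ρ F × Matrix κ ρ F)) :
    ∀ r : Fin t.length → Matrix κ ρ F, (∀ i ∈ t, i.2.1 * w0 = w0 * (L * i.2.1 * w0)) →
      combLin t r * w0 =
        combLin (t.map (onW w0 L)) fun j => r (Fin.cast (List.length_map _) j) * w0 := by
  induction t with
  | nil => intro r _; exact (Matrix.zero_mul _).trans rfl
  | cons i t ih =>
    intro r hinv
    have hp : (t.map fun j => j.2.1).prod * w0 =
        w0 * ((t.map (onW w0 L)).map fun j => j.2.1).prod := by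
      refine prod_intertwine ?_
      rw [List.map_map, List.forall₂_map_left_iff, List.forall₂_map_right_iff, List.forall₂_same]
      exact fun j hj => hinv j (List.mem_cons_of_mem _ hj)
    have h := ih (fun j => r j.succ) fun l hl => hinv l (List.mem_cons_of_mem _ hl)
    simp only [combLin, List.map_cons, LinearMap.coe_mk, AddHom.coe_mk]
    rw [Matrix.add_mul, Matrix.mul_assoc i.1, h, Matrix.mul_assoc, hp]
    congr 1
    rw [← Matrix.mul_assoc]
    congr 1
    simp only [onW, Matrix.sub_mul, Matrix.mul_assoc]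
    congr 2
    simpa only [Matrix.mul_assoc] using hinv i List.mem_cons_self

theorem combLin_const (t : List (Matrix κ κ F × Matrix ρ ρ F × Matrix κ ρ F)) :
    ∀ φ : Matrix κ ρ F, combLin t (fun _ => φ) =
      φ * (t.map fun j => j.2.1).prod - (t.map fun j => j.1).prod * φ := by
  induction t with
  | nil => intro φ; simp [combLin]
  | cons i t ih =>
    intro φ
    simp only [combLin, LinearMap.coe_mk, AddHom.coe_mk, List.map_cons, List.prod_cons]
    rw [ih]
    simp only [Matrix.sub_mul, Matrix.mul_sub, Matrix.mul_assoc]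
    abel

theorem combLin_congr (t : List (Matrix κ κ F × Matrix ρ ρ F × Matrix κ ρ F)) :
    ∀ r r' : Fin t.length → Matrix κ ρ F,
      (∀ j, r j * t[j].2.1 - t[j].1 * r j = r' j * t[j].2.1 - t[j].1 * r' j) →
      combLin t r = combLin t r' := by
  induction t with
  | nil => intro r r' _; simp [combLin]
  | cons i t ih =>
    intro r r' h
    simp only [combLin, LinearMap.coe_mk, AddHom.coe_mk]
    have h0 := h 0
    simp only [Fin.getElem_fin, Fin.val_zero, List.getElem_cons_zero] at h0
    rw [h0, ih _ (fun j => r' j.succ) fun j => by simpa using h j.succ]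

/-- Two blocks with different traces have few intertwiners. -/
theorem finrank_hom_lt {C K : Matrix κ κ F} (hC : ¬ IsScalarMat C) (hK : ¬ IsScalarMat K)
    (htr : C.trace ≠ K.trace) {S : Submodule F (Matrix κ κ F)}
    (hS : ∀ φ ∈ S, φ * C = K * φ) :
    finrank F S < Fintype.card κ * Fintype.card κ ∧ (Fintype.card κ = 2 → finrank F S ≤ 1) := by
  refine ⟨?_, fun h2 => ?_⟩
  · have hne : S ≠ ⊤ := fun h => htr (by
      have := hS 1 (by rw [h]; trivial)
      rw [Matrix.one_mul, Matrix.mul_one] at this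
      rw [this])
    simpa [Module.finrank_matrix] using Submodule.finrank_lt hne
  · by_contra hlt
    push Not at hlt
    obtain ⟨e, he⟩ : ∃ e : κ → F, ∀ c : F, C *ᵥ e ≠ c • e := exists_not_eigen hC
    obtain ⟨v, hv⟩ : ∃ v : κ → F, ∀ c : F, K *ᵥ v ≠ c • v := exists_not_eigen hK
    have span : ∀ {a b : κ → F}, a ≠ 0 → (∀ c : F, b ≠ c • a) →
        Submodule.span F (Set.range ![a, b]) = ⊤ := by
      intro a b ha hb
      refine LinearIndependent.span_eq_top_of_card_eq_finrank ?_ (by simp [h2])
      exact (LinearIndependent.pair_iff' ha).2 fun c => (hb c).symm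
    let ev : S →ₗ[F] (κ → F) :=
      { toFun := fun φ => (φ : Matrix κ κ F) *ᵥ e
        map_add' := fun a b => add_mulVec _ _ _
        map_smul' := fun a b => smul_mulVec _ _ _ }
    have he0 : e ≠ 0 := fun h => he 0 (by simp [h])
    have hinj : Function.Injective ev := by
      rw [← LinearMap.ker_eq_bot, Submodule.eq_bot_iff]
      intro φ hφ
      rw [LinearMap.mem_ker] at hφ
      change (φ : Matrix κ κ F) *ᵥ e = 0 at hφ
      refine Subtype.ext (Matrix.toLin'.injective (LinearMap.ext_on_range (span he0 he) ?_))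
      intro i
      fin_cases i
      · simpa using hφ
      · simp [mulVec_mulVec, hS φ φ.2]
        rw [← mulVec_mulVec, hφ, mulVec_zero]
    have hsurj : Function.Surjective ev := by
      refine LinearMap.range_eq_top.1 (Submodule.eq_top_of_finrank_eq (le_antisymm
        (Submodule.finrank_le _) ?_))
      rw [LinearMap.finrank_range_of_inj hinj, Module.finrank_pi, h2]
      omega
    obtain ⟨⟨φ, hφS⟩, hφ⟩ := hsurj v
    change φ *ᵥ e = v at hφ
    have hv0 : v ≠ 0 := fun h => hv 0 (by simp [h])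
    have hu : IsUnit φ := by
      rw [← Matrix.mulVec_surjective_iff_isUnit]
      refine (LinearMap.range_eq_top (f := φ.mulVecLin)).1 (top_le_iff.1 ((span hv0 hv).ge.trans ?_))
      rw [Submodule.span_le]
      rintro _ ⟨i, rfl⟩
      fin_cases i
      · exact ⟨e, hφ⟩
      · exact ⟨C *ᵥ e, by simp [mulVec_mulVec, hS φ hφS, ← hφ]⟩
    obtain ⟨φ', h1⟩ := hu.exists_left_inv
    refine htr ?_
    calc C.trace = (φ' * (φ * C)).trace := by rw [← Matrix.mul_assoc, h1, Matrix.one_mul]
      _ = (φ' * (K * φ)).trace := by rw [hS φ hφS]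
      _ = (φ * φ' * K).trace := by rw [Matrix.trace_mul_comm, Matrix.mul_assoc, Matrix.trace_mul_comm]
      _ = K.trace := by rw [mul_eq_one_comm.1 h1, Matrix.one_mul]

theorem prod_trace_eq {l1 l2 : List (Matrix κ κ F)} {w : Matrix κ κ F} (hw : IsUnit w)
    (h : List.Forall₂ (fun y K => y * w = w * K) l1 l2) : l2.prod.trace = l1.prod.trace := by
  have e := prod_intertwine h
  obtain ⟨u, rfl⟩ := hw
  have e2 : l2.prod = (↑u⁻¹ : Matrix κ κ F) * (l1.prod * u) := by
    rw [e, ← Matrix.mul_assoc, Units.inv_mul, Matrix.one_mul]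
  rw [e2, Matrix.trace_mul_comm, Matrix.mul_assoc, Units.mul_inv, Matrix.mul_one]

theorem finrank_ker_le (t : List (Matrix κ κ F × Matrix κ κ F × Matrix κ κ F))
    (hc : ∀ i ∈ t, Irreducible i.2.1.charpoly) {S : Submodule F (Fin t.length → Matrix κ κ F)}
    (hS : ∀ r ∈ S, ∀ j, r j * t[j].2.1 = t[j].1 * r j) :
    finrank F S ≤ t.length * Fintype.card κ := by
  rcases isEmpty_or_nonempty κ with hE | ⟨⟨i0⟩⟩
  · have : Subsingleton (Fin t.length → Matrix κ κ F) := inferInstance
    simp [Module.finrank_zero_of_subsingleton]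
  let ev : S →ₗ[F] (Fin t.length → κ → F) :=
    { toFun := fun r j => (r : Fin t.length → Matrix κ κ F) j *ᵥ Pi.single i0 1
      map_add' := fun a b => funext fun j => add_mulVec _ _ _
      map_smul' := fun a b => funext fun j => by ext i; simp }
  have hinj : Function.Injective ev := by
    rw [← LinearMap.ker_eq_bot, Submodule.eq_bot_iff]
    intro r hr
    refine Subtype.ext (funext fun j => ?_)
    by_contra hne
    have h1 := congrFun (LinearMap.mem_ker.1 hr) j
    have hi := injective_of_intertwine (hc _ (List.getElem_mem _)) (hS _ r.2 j).symm hne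
    have h2 : (Pi.single i0 1 : κ → F) = 0 := hi (by rw [mulVec_zero]; exact h1)
    simpa using congrFun h2 i0
  have := LinearMap.finrank_le_finrank_of_injective hinj
  simpa [Module.finrank_pi_fintype, Module.finrank_pi] using this

theorem forall₂_shiftAll_onW (w0 : Matrix ρ κ F) (L : Matrix κ ρ F)
    (t : List (Matrix κ κ F × Matrix ρ ρ F × Matrix κ ρ F)) :
    ∀ r : Fin t.length → Matrix κ ρ F, (∀ i ∈ t, i.2.1 * w0 = w0 * (L * i.2.1 * w0)) →
      List.Forall₂ (fun a b => a.1 = b.1 ∧ a.2.1 = b.2.1)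
        (t.map (onW w0 L)) ((shiftAll t r).map (onW w0 L)) := by
  induction t with
  | nil => intro r _; exact List.Forall₂.nil
  | cons i t ih =>
    intro r h
    exact List.Forall₂.cons ⟨rfl, rfl⟩ (ih _ fun l hl => h l (List.mem_cons_of_mem _ hl))

theorem length_shiftAll (t : List (Matrix κ κ F × Matrix ρ ρ F × Matrix κ ρ F))
    (r : Fin t.length → Matrix κ ρ F) : (shiftAll t r).length = t.length := by
  simpa using congrArg List.length (shiftAll_fst t r)

theorem getElem_shiftAll (t : List (Matrix κ κ F × Matrix ρ ρ F × Matrix κ ρ F)) :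
    ∀ (r : Fin t.length → Matrix κ ρ F) (j : Fin t.length),
      (shiftAll t r)[(j : ℕ)]'(by rw [length_shiftAll]; exact j.2) = shift (t[j], r j) := by
  induction t with
  | nil => intro r j; exact j.elim0
  | cons i t ih =>
    intro r j
    refine Fin.cases ?_ (fun k => ?_) j
    · rfl
    · simpa [shiftAll] using ih (fun l => r l.succ) k

/-- One step: any corner, and the socle stays simple at two levels. -/
theorem step (t : List (Matrix κ κ F × Matrix ρ ρ F × Matrix κ ρ F))
    (hy : ∀ i ∈ t, i.2.1.det ≠ 0) (hK : ∀ i ∈ t, Irreducible i.1.charpoly) {f f' : F}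
    (hsub : Sub κ (t.map fun i => i.2.1) f f')
    (htr : Matrix.trace (List.map (fun i => i.1) t).prod ≠ f)
    (htr' : Matrix.trace (List.map (fun i => i.1) t).prod ≠ f')
    (T : Matrix κ ρ F) :
    ∃ t' : List (Matrix κ κ F × Matrix ρ ρ F × Matrix κ ρ F), List.Forall₂ Orb (t.map blk) (t'.map blk) ∧
      (t'.map blk).prod =
        fromBlocks (t.map fun i => i.1).prod T 0 (t.map fun i => i.2.1).prod ∧
      (3 ≤ t.length → 2 ≤ Fintype.card κ → ¬ IsScalarMat (t.map fun i => i.1).prod →
        Sub κ (t'.map blk) (Matrix.trace (List.map (fun i => i.1) t).prod) f) := by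
  classical
  obtain ⟨w0, cs, hinj, hcs, hcns, hex, hmod⟩ := hsub
  obtain ⟨L, hL⟩ := exists_left_inv hinj
  have hc : ∀ y c, y * w0 = w0 * c → L * y * w0 = c := fun y c h => by
    rw [Matrix.mul_assoc, h, ← Matrix.mul_assoc, hL, Matrix.one_mul]
  have hcs' : cs = t.map fun i => L * i.2.1 * w0 := by
    have key : ∀ (ys : List (Matrix ρ ρ F)) cs, List.Forall₂
        (fun y c => y * w0 = w0 * c ∧ Irreducible c.charpoly) ys cs →
        cs = ys.map fun y => L * y * w0 := by
      intro ys cs h
      induction h with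
      | nil => rfl
      | cons h1 _ ih => rw [List.map_cons, ← ih, hc _ _ h1.1]
    rw [key _ _ hcs, List.map_map]; rfl
  rw [hcs', List.forall₂_map_left_iff, List.forall₂_map_right_iff, List.forall₂_same] at hcs
  have hinv : ∀ i ∈ t, i.2.1 * w0 = w0 * (L * i.2.1 * w0) := fun i hi => (hcs i hi).1
  have hirr : ∀ i ∈ t, Irreducible (L * i.2.1 * w0).charpoly := fun i hi => (hcs i hi).2
  have hno0 : ∀ w : Matrix ρ κ F, (∀ i ∈ t, ∃ c : Matrix κ κ F,
      i.2.1 * w - w * i.1 = (0 : Matrix ρ κ F) * c) → ∃ c : Matrix κ κ F, w = (0 : Matrix ρ κ F) * c := by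
    intro w hw
    refine ⟨0, ?_⟩
    rw [Matrix.zero_mul]
    by_contra hne
    refine htr (hex _ w (forall₂_fst_snd.2 fun i hi => ⟨hK i hi, ?_⟩) hne).1
    obtain ⟨c, hc'⟩ := hw i hi
    rwa [Matrix.zero_mul, sub_eq_zero] at hc'
  obtain ⟨r0, -, hr0⟩ := reach hy (Or.inr rfl) (fun i _ => ⟨0, by simp⟩) hno0 (T - comb t)
    (Matrix.mul_zero _)
  suffices hgoal : ∃ r, combLin t r = T - comb t ∧ (3 ≤ t.length → 2 ≤ Fintype.card κ →
      ¬ IsScalarMat (t.map fun i => i.1).prod → ¬ ∃ φ : Matrix κ κ F, ∀ j : Fin t.length,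
        t[j].2.2 * w0 + ((r j * t[j].2.1) * w0 - t[j].1 * r j * w0) =
          φ * (L * t[j].2.1 * w0) - t[j].1 * φ) by
    obtain ⟨r, hr, hsplit⟩ := hgoal
    refine ⟨shiftAll t r, shiftAll_orb t r, ?_, fun h3 h2 hns => ?_⟩
    · rw [prod_blk, comb_shiftAll, hr, add_sub_cancel, shiftAll_fst, shiftAll_snd]
    refine ⟨fromRows 1 0, t.map fun i => i.1, ?_, ?_, hns, ?_, ?_⟩
    · intro a b hab
      rw [fromRows_mulVec, fromRows_mulVec] at hab
      funext i
      simpa using congrFun hab (Sum.inl i)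
    · rw [← shiftAll_fst t r, List.forall₂_map_left_iff, List.forall₂_map_right_iff,
        List.forall₂_same]
      intro i hi
      refine ⟨?_, ?_⟩
      · rw [blk, fromBlocks_mul_fromRows]; simp
      · have : i.1 ∈ (shiftAll t r).map fun i => i.1 := List.mem_map.2 ⟨i, hi, rfl⟩
        rw [shiftAll_fst] at this
        obtain ⟨l, hl, e⟩ := List.mem_map.1 this
        rw [← e]; exact hK l hl
    · intro Ks w hKs hw
      obtain ⟨w1, w2, rfl⟩ : ∃ w1 w2, w = fromRows w1 w2 :=
        ⟨w.toRows₁, w.toRows₂, (fromRows_toRows w).symm⟩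
      rw [List.forall₂_map_left_iff] at hKs
      have h2' : List.Forall₂ (fun y K => Irreducible K.charpoly ∧ y * w2 = w2 * K)
          (t.map fun i => i.2.1) Ks := by
        rw [← shiftAll_snd t r, List.forall₂_map_left_iff]
        refine hKs.imp fun i K h => ⟨h.1, ?_⟩
        have h' := h.2
        rw [blk, fromBlocks_mul_fromRows, fromRows_mul, fromRows_ext_iff] at h'
        simpa using h'.2
      by_cases hw2 : w2 = 0
      · subst hw2
        refine ⟨?_, w1, by rw [fromRows_mul]; simp⟩
        have hw1 : w1 ≠ 0 := fun h => hw (by rw [h, fromRows_zero])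
        have h1 : List.Forall₂ (fun y K => Irreducible K.charpoly ∧ y * w1 = w1 * K)
            (t.map fun i => i.1) Ks := by
          rw [← shiftAll_fst t r, List.forall₂_map_left_iff]
          refine hKs.imp fun i K h => ⟨h.1, ?_⟩
          have h' := h.2
          rw [blk, fromBlocks_mul_fromRows, fromRows_mul, fromRows_ext_iff] at h'
          simpa using h'.1
        refine prod_trace_eq ?_ (h1.imp fun _ _ h => h.2)
        have hl := h1.length_eq
        rw [List.length_map] at hl
        have h := h1.get (i := 0) (by rw [List.length_map]; omega) (by omega)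
        exact Matrix.mulVec_injective_iff_isUnit.1 (injective_of_intertwine h.1 h.2 hw1)
      · exfalso
        obtain ⟨-, c, rfl⟩ := hex Ks w2 h2' hw2
        have hcu : IsUnit c := by
          have hl := h2'.length_eq
          rw [List.length_map] at hl
          have h' := h2'.get (i := 0) (by rw [List.length_map]; omega) (by omega)
          refine Matrix.mulVec_injective_iff_isUnit.1 fun a b hab =>
            injective_of_intertwine h'.1 h'.2 hw2 ?_
          rw [← mulVec_mulVec, ← mulVec_mulVec, hab]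
        obtain ⟨c', hc'⟩ := hcu.exists_right_inv
        refine hsplit h3 h2 hns ⟨w1 * c', fun j => ?_⟩
        obtain ⟨K, hKj, e1, e2⟩ : ∃ K : Matrix κ κ F, Irreducible K.charpoly ∧
            t[j].1 * w1 + (t[j].2.2 + (r j * t[j].2.1 - t[j].1 * r j)) * (w0 * c) = w1 * K ∧
            t[j].2.1 * (w0 * c) = w0 * c * K := by
          have hlen := hKs.length_eq
          rw [length_shiftAll] at hlen
          have hj := List.Forall₂.get hKs (i := j) (by rw [length_shiftAll]; exact j.2)
            (by omega)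
          simp only [List.get_eq_getElem, getElem_shiftAll] at hj
          rw [blk, fromBlocks_mul_fromRows, fromRows_mul, fromRows_ext_iff] at hj
          exact ⟨_, hj.1, by simpa [shift] using hj.2.1, by simpa [shift] using hj.2.2⟩
        have e3 : c * K = L * t[j].2.1 * w0 * c := by
          calc c * K = (L * w0) * c * K := by rw [hL, Matrix.one_mul]
            _ = L * (w0 * c * K) := by simp only [Matrix.mul_assoc]
            _ = _ := by rw [← e2]; simp only [Matrix.mul_assoc]
        have e4 := congrArg (· * c') e1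
        simp only [Matrix.add_mul, Matrix.mul_assoc, hc', Matrix.mul_one] at e4
        have e5 : c' * (L * t[j].2.1 * w0) = K * c' := by
          have hc2 : c' * c = 1 := mul_eq_one_comm.1 hc'
          calc c' * (L * t[j].2.1 * w0) = c' * (L * t[j].2.1 * w0) * (c * c') := by
                rw [hc', Matrix.mul_one]
            _ = c' * (L * t[j].2.1 * w0 * c) * c' := by simp only [Matrix.mul_assoc]
            _ = K * c' := by rw [← e3, ← Matrix.mul_assoc c', hc2, Matrix.one_mul]
        rw [Matrix.mul_assoc w1, e5, ← e4]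
        simp only [Matrix.add_mul, Matrix.sub_mul, Matrix.mul_assoc]
        abel
    · intro Ks w hKs
      obtain ⟨w1, w2, rfl⟩ : ∃ w1 w2, w = fromRows w1 w2 :=
        ⟨w.toRows₁, w.toRows₂, (fromRows_toRows w).symm⟩
      by_cases hw2 : w2 = 0
      · exact Or.inl ⟨w1, by subst hw2; rw [fromRows_mul]; simp⟩
      · refine Or.inr (hex Ks w2 ?_ hw2).1
        rw [← shiftAll_snd t r, List.forall₂_map_left_iff]
        rw [List.forall₂_map_left_iff] at hKs
        refine hKs.imp fun i K h => ⟨h.1, ?_⟩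
        obtain ⟨c, h'⟩ := h.2
        rw [blk, fromBlocks_mul_fromRows, fromRows_mul, fromRows_mul, sub_eq_iff_eq_add] at h'
        have h'' := congrArg Matrix.toRows₂ h'
        simpa [fromRows_toRows, Matrix.toRows₂, funext_iff, ← Matrix.ext_iff] using h''
  by_cases hbad : 3 ≤ t.length ∧ 2 ≤ Fintype.card κ ∧ ¬ IsScalarMat (t.map fun i => i.1).prod
  swap
  · exact ⟨r0, hr0, fun a b c => (hbad ⟨a, b, c⟩).elim⟩
  obtain ⟨h3, h2, hns⟩ := hbad
  by_cases hs0 : ∃ φ : Matrix κ κ F, ∀ j : Fin t.length,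
        t[j].2.2 * w0 + ((r0 j * t[j].2.1) * w0 - t[j].1 * r0 j * w0) =
          φ * (L * t[j].2.1 * w0) - t[j].1 * φ
  swap
  · exact ⟨r0, hr0, fun _ _ _ => hs0⟩
  obtain ⟨φ0, hφ0⟩ := hs0
  set tW := t.map (onW w0 L) with htW
  have hlen : tW.length = t.length := List.length_map _
  suffices hN : ∃ r' : Fin tW.length → Matrix κ κ F, combLin tW r' = 0 ∧
      ¬ ∃ φ : Matrix κ κ F, ∀ j, r' j * tW[j].2.1 - tW[j].1 * r' j = φ * tW[j].2.1 - tW[j].1 * φ by
    obtain ⟨r', hr'0, hr'1⟩ := hN
    set r1 : Fin t.length → Matrix κ ρ F := fun j => r' (Fin.cast hlen.symm j) * L with hr1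
    have h1 : combLin t r1 * w0 = 0 := by
      rw [combLin_onW w0 L t r1 hinv, ← hr'0]
      refine congrArg _ (funext fun j => ?_)
      simp [hr1, Matrix.mul_assoc, hL]
    obtain ⟨r2, hr2w, hr2⟩ := reach hy (Or.inl hinj) (fun i hi => ⟨_, hinv i hi⟩) (fun w hw => by
      rcases hmod _ w (forall₂_fst_snd.2 fun i hi => ⟨hK i hi, hw i hi⟩) with h | h
      · exact h
      · exact (htr' h).elim) (combLin t r1) h1
    refine ⟨r0 + (r1 - r2), by rw [map_add, map_sub, hr0, hr2, sub_self, add_zero], fun _ _ _ => ?_⟩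
    rintro ⟨φ, hφ⟩
    refine hr'1 ⟨φ - φ0, fun j => ?_⟩
    have a := hφ (Fin.cast hlen j)
    have b := hφ0 (Fin.cast hlen j)
    have hjW : tW[j] = onW w0 L t[Fin.cast hlen j] := by simp [htW]
    have hri : (r1 - r2) (Fin.cast hlen j) * w0 = r' j := by
      rw [Pi.sub_apply, Matrix.sub_mul, hr2w, sub_zero, hr1]
      simp [Matrix.mul_assoc, hL]
    have hi := hinv t[Fin.cast hlen j] (List.getElem_mem _)
    rw [hjW]
    simp only [onW]
    set K := t[Fin.cast hlen j].1
    set y := t[Fin.cast hlen j].2.1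
    set u := t[Fin.cast hlen j].2.2
    set cc := L * y * w0
    set d := (r1 - r2) (Fin.cast hlen j)
    rw [Pi.add_apply] at a
    rw [← hri]
    have hd1 : d * y * w0 = d * w0 * cc := by rw [Matrix.mul_assoc, hi, ← Matrix.mul_assoc]
    rw [Matrix.sub_mul φ, Matrix.mul_sub K φ, ← hd1, ← Matrix.mul_assoc K d]
    calc d * y * w0 - K * d * w0
        = (φ * cc - K * φ) - (φ0 * cc - K * φ0) := by
          rw [← a, ← b]; simp only [Matrix.add_mul, Matrix.mul_add]; abel
      _ = _ := by abel
  by_contra hN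
  push Not at hN
  let S : Submodule F (Fin tW.length → Matrix κ κ F) :=
    { carrier := {r | ∀ j, r j * tW[j].2.1 = tW[j].1 * r j}
      add_mem' := fun ha hb j => by rw [Pi.add_apply, Matrix.add_mul, Matrix.mul_add, ha j, hb j]
      zero_mem' := fun j => by simp
      smul_mem' := fun c r hr j => by
        rw [Pi.smul_apply, Matrix.smul_mul, Matrix.mul_smul, hr j] }
  let H : Submodule F (Matrix κ κ F) :=
    { carrier := {φ | φ * (tW.map fun i => i.2.1).prod = (tW.map fun i => i.1).prod * φ}
      add_mem' := fun {a b} (ha : _ = _) (hb : _ = _) => by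
        show (a + b) * _ = _ * (a + b)
        rw [Matrix.add_mul, Matrix.mul_add, ha, hb]
      zero_mem' := by show (0 : Matrix κ κ F) * _ = _ * 0; simp
      smul_mem' := fun c r (hr : _ = _) => by
        show (c • r) * _ = _ * (c • r)
        rw [Matrix.smul_mul, Matrix.mul_smul, hr] }
  let const : Matrix κ κ F →ₗ[F] (Fin tW.length → Matrix κ κ F) :=
    { toFun := fun φ _ => φ, map_add' := fun _ _ => rfl, map_smul' := fun _ _ => rfl }
  have hsub : LinearMap.ker (combLin tW) ≤ H.map const ⊔ S := by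
    intro r hr
    rw [LinearMap.mem_ker] at hr
    obtain ⟨φ, hφ⟩ := hN r hr
    refine Submodule.mem_sup.2 ⟨const φ, Submodule.mem_map_of_mem ?_, r - const φ, fun j => ?_,
      add_sub_cancel _ _⟩
    · show _ = _
      rw [← sub_eq_zero, ← combLin_const, ← combLin_congr tW r (fun _ => φ) hφ, hr]
    · have := hφ j
      simp only [Pi.sub_apply, Matrix.sub_mul, Matrix.mul_sub]
      rw [← sub_eq_zero] at this ⊢
      rw [← this]; simp only [const, LinearMap.coe_mk, AddHom.coe_mk]; abel
  have hcsW : (tW.map fun i => i.2.1).prod = cs.prod := by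
    rw [hcs', htW, List.map_map]; rfl
  have hKW : (tW.map fun i => i.1).prod = (t.map fun i => i.1).prod := by
    rw [htW, List.map_map]; rfl
  have hirrW : ∀ i ∈ tW, Irreducible i.2.1.charpoly := fun i hi => by
    obtain ⟨l, hl, rfl⟩ := List.mem_map.1 hi; exact hirr l hl
  have hne : t ≠ [] := fun h => by simp [h] at h3
  have htrC : cs.prod.trace = f := by
    refine (hex cs w0 ?_ fun h0 => ?_).1
    · rw [hcs', List.forall₂_map_left_iff, List.forall₂_map_right_iff, List.forall₂_same]
      exact fun i hi => ⟨hirr i hi, hinv i hi⟩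
    · subst h0
      have : Nonempty κ := Fintype.card_pos_iff.1 (by omega)
      obtain ⟨i0⟩ := this
      have := congrFun (hinj (show (0 : Matrix ρ κ F) *ᵥ Pi.single i0 1 = (0 : Matrix ρ κ F) *ᵥ 0 by rw [zero_mulVec, zero_mulVec])) i0
      simp at this
  have hH := finrank_hom_lt hcns hns (by rw [htrC]; exact htr.symm) (S := H)
    (fun φ (hφ : φ * _ = _) => by rwa [hcsW, hKW] at hφ)
  have hS := finrank_ker_le tW hirrW (S := S) fun r hr => hr
  have hd1 := Submodule.finrank_mono hsub
  have hd2 : finrank F ↥(H.map const ⊔ S) ≤ finrank F H + finrank F S :=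
    (Submodule.finrank_add_le_finrank_add_finrank _ _).trans
      (Nat.add_le_add_right (Submodule.finrank_map_le _ _) _)
  have hd3 := (combLin tW).finrank_range_add_finrank_ker
  have hd4 : finrank F (LinearMap.range (combLin tW)) ≤ finrank F (Matrix κ κ F) :=
    Submodule.finrank_le _
  simp only [Module.finrank_matrix, Module.finrank_pi_fintype, Module.finrank_self, mul_one,
    Finset.sum_const, Finset.card_univ, Fintype.card_fin, smul_eq_mul] at hd3 hd4
  have hlen2 : tW.length * (Fintype.card κ * Fintype.card κ) =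
      t.length * (Fintype.card κ * Fintype.card κ) := by rw [hlen]
  have hlen3 : tW.length * Fintype.card κ = t.length * Fintype.card κ := by rw [hlen]
  obtain ⟨hH1, hH2⟩ := hH
  set k := Fintype.card κ
  rcases eq_or_lt_of_le h2 with hk | hk
  · have := hH2 hk.symm
    rw [← hk] at hd3 hd4 hS hlen2 hlen3
    omega
  · have : 3 * (k * k) + t.length * k ≤ t.length * (k * k) + 3 * k := by
      obtain ⟨d, hd⟩ := Nat.exists_eq_add_of_le h3
      rw [hd]; nlinarith [Nat.mul_le_mul_left d (Nat.le_mul_self k)]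
    have : 3 * k ≤ k * k := Nat.mul_le_mul_right k hk
    omega

end CfsgLib.Lev.Primary
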